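import Mathlib.GroupTheory.OrderOfElement
import Mathlib.GroupTheory.QuotientGroup.Basic
import Mathlib.GroupTheory.GroupAction.ConjAct
import Mathlib.Data.Set.Card
import Mathlib.Algebra.Group.Subgroup.Basic
import Mathlib.Tactic

/-!
# Conjugation-closed sets of involutions with product orders in `{1, 2, p}`

Elementary facts: every non-commuting pair has a unique "midpoint" in the set, and an element of the
set commuting with a product of two distinct members commutes with both.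
-/

set_option autoImplicit false
set_option linter.style.haveILetI false

namespace CfsgLib.OddTransp48

variable {G H : Type*} [Group G] [Group H] {p : ℕ} {D : Set G}

/-- A conjugation-closed set of involutions in which the product of two members has order
dividing `2` or `p`. -/
structure Good (p : ℕ) (D : Set G) : Prop where
  two : ∀ d ∈ D, orderOf d = 2
  conj : ∀ g : G, ∀ d ∈ D, g * d * g⁻¹ ∈ D
  prod : ∀ a ∈ D, ∀ b ∈ D, (a * b) ^ 2 = 1 ∨ (a * b) ^ p = 1

/-- Two members with the same commuting members of `D`. -/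
def Tw (D : Set G) (a b : G) : Prop :=
  a ∈ D ∧ b ∈ D ∧ ∀ y ∈ D, Commute y a ↔ Commute y b

theorem Tw.refl {a : G} (ha : a ∈ D) : Tw D a a := ⟨ha, ha, fun _ _ => Iff.rfl⟩

theorem Tw.symm {a b : G} (h : Tw D a b) : Tw D b a :=
  ⟨h.2.1, h.1, fun y hy => (h.2.2 y hy).symm⟩

theorem Tw.trans {a b c : G} (h : Tw D a b) (h' : Tw D b c) : Tw D a c :=
  ⟨h.1, h'.2.1, fun y hy => (h.2.2 y hy).trans (h'.2.2 y hy)⟩

theorem Tw.commute {a b : G} (h : Tw D a b) : Commute a b :=
  (h.2.2 a h.1).mp (Commute.refl a)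

theorem eq_one_of_sq_of_pow {g : G} (hp : p.Prime) (hp2 : p ≠ 2) (h2 : g ^ 2 = 1)
    (hpp : g ^ p = 1) : g = 1 := by
  have h : g ^ Nat.gcd 2 p = 1 := pow_gcd_eq_one.mpr ⟨h2, hpp⟩
  rwa [Nat.coprime_iff_gcd_eq_one.mp ((Nat.coprime_primes Nat.prime_two hp).mpr (Ne.symm hp2)),
    pow_one] at h

theorem eq_one_of_fourth_of_pow {g : G} (hp : p.Prime) (hp2 : p ≠ 2) (h4 : g ^ 4 = 1)
    (hpp : g ^ p = 1) : g = 1 := by
  apply eq_one_of_sq_of_pow hp hp2 _ hpp
  apply eq_one_of_sq_of_pow hp hp2 (by rw [← pow_mul]; exact h4)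
  rw [← pow_mul, mul_comm, pow_mul, hpp, one_pow]

namespace Good

theorem mul_self (hG : Good p D) {a : G} (ha : a ∈ D) : a * a = 1 := by
  rw [← pow_two, ← hG.two a ha, pow_orderOf_eq_one]

theorem ne_one (hG : Good p D) {a : G} (ha : a ∈ D) : a ≠ 1 := fun h => by
  have := hG.two a ha; rw [h, orderOf_one] at this; omega

theorem inv_eq (hG : Good p D) {a : G} (ha : a ∈ D) : a⁻¹ = a :=
  inv_eq_of_mul_eq_one_right (hG.mul_self ha)

theorem mul_mem (hG : Good p D) {x a : G} (hx : x ∈ D) (ha : a ∈ D) : x * a * x ∈ D := by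
  simpa only [hG.inv_eq hx] using hG.conj x a ha

theorem commute_iff (hG : Good p D) {a b : G} (ha : a ∈ D) (hb : b ∈ D) :
    Commute a b ↔ (a * b) ^ 2 = 1 := by
  rw [pow_two, mul_eq_one_iff_eq_inv, mul_inv_rev, hG.inv_eq ha, hG.inv_eq hb]; rfl

theorem pow_p (hG : Good p D) {a b : G} (ha : a ∈ D) (hb : b ∈ D) (h : ¬ Commute a b) :
    (a * b) ^ p = 1 :=
  (hG.prod a ha b hb).resolve_left fun h' => h ((hG.commute_iff ha hb).mpr h')

theorem orderOf_mul (hG : Good p D) (hp : p.Prime) {a b : G} (ha : a ∈ D) (hb : b ∈ D)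
    (h : ¬ Commute a b) : orderOf (a * b) = p := by
  haveI := Fact.mk hp
  refine orderOf_eq_prime (hG.pow_p ha hb h) fun h1 => h ((hG.commute_iff ha hb).mpr ?_)
  rw [h1, one_pow]

theorem swap_pow (hG : Good p D) {a b : G} (ha : a ∈ D) (hb : b ∈ D) (k : ℕ) :
    a * (a * b) ^ k * a = ((a * b)⁻¹) ^ k := by
  have h : a * (a * b) * a⁻¹ = (a * b)⁻¹ := by
    rw [hG.inv_eq ha, ← mul_assoc, hG.mul_self ha, one_mul, mul_inv_rev, hG.inv_eq ha, hG.inv_eq hb]
  calc a * (a * b) ^ k * a = a * (a * b) ^ k * a⁻¹ := by rw [hG.inv_eq ha]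
    _ = (a * (a * b) * a⁻¹) ^ k := _root_.conj_pow.symm
    _ = _ := by rw [h]

/-- All `a (ab)^k` lie in `D` when `a`, `b` do not commute. -/
theorem mul_pow_mem (hG : Good p D) (hp : p.Prime) (hp2 : p ≠ 2) {a b : G} (ha : a ∈ D)
    (hb : b ∈ D) (h : ¬ Commute a b) (k : ℕ) : a * (a * b) ^ k ∈ D := by
  obtain ⟨r, hr⟩ := (hp.odd_of_ne_two hp2)
  set g := a * b with hg
  have hgp : g ^ p = 1 := hG.pow_p ha hb h
  set i := k * (r + 1)
  have e1 : g ^ (i + i) = g ^ k := by
    rw [show i + i = p * k + k by simp only [i, hr]; ring, pow_add, pow_mul, hgp, one_pow, one_mul]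
  have e2 : a * g ^ k = (g ^ i)⁻¹ * a * (g ^ i)⁻¹⁻¹ := by
    have := hG.swap_pow ha hb i
    rw [← hg, inv_pow] at this
    rw [inv_inv, ← e1, pow_add, ← this]
    simp only [mul_assoc]
    rw [← mul_assoc a a (g ^ i), hG.mul_self ha, one_mul]
  rw [e2]
  exact hG.conj _ a ha

/-- A midpoint of a non-commuting pair. -/
theorem exists_swapper (hG : Good p D) (hp : p.Prime) (hp2 : p ≠ 2) {a b : G} (ha : a ∈ D)
    (hb : b ∈ D) (h : ¬ Commute a b) : ∃ x ∈ D, ¬ Commute x a ∧ x * a * x = b := by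
  obtain ⟨r, hr⟩ := (hp.odd_of_ne_two hp2)
  set g := a * b with hg
  have hgp : g ^ p = 1 := hG.pow_p ha hb h
  set x := a * g ^ (r + 1) with hx
  have hxD : x ∈ D := hG.mul_pow_mem hp hp2 ha hb h _
  have key : x * a * x = b := by
    have := hG.swap_pow ha hb (r + 1)
    rw [← hg] at this
    rw [hx]
    calc a * g ^ (r + 1) * a * (a * g ^ (r + 1)) = a * g ^ (r + 1) * g ^ (r + 1) := by
          simp only [mul_assoc]
          rw [← mul_assoc a a (g ^ (r + 1)), hG.mul_self ha, one_mul]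
      _ = a * g := by
          rw [mul_assoc, ← pow_add, show r + 1 + (r + 1) = p + 1 by omega, pow_succ, hgp, one_mul]
      _ = b := by rw [hg, ← mul_assoc, hG.mul_self ha, one_mul]
  refine ⟨x, hxD, fun hc => h ?_, key⟩
  rw [← key, hc.eq, mul_assoc, hG.mul_self hxD, mul_one]

theorem not_commute_move (hG : Good p D) (hp : p.Prime) (hp2 : p ≠ 2) {x a : G} (hx : x ∈ D)
    (ha : a ∈ D) (h : ¬ Commute x a) : ¬ Commute a (x * a * x) := by
  have h' : ¬ Commute a x := fun h' => h h'.symm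
  intro hc
  have h4 : (a * x) ^ 4 = 1 := by
    have e : (a * x) ^ 4 = (a * (x * a * x)) * (a * (x * a * x)) := by
      simp [pow_succ, pow_zero, mul_assoc]
    rw [e, ← pow_two]
    exact (hG.commute_iff ha (hG.mul_mem hx ha)).mp hc
  have h1 := eq_one_of_fourth_of_pow hp hp2 h4 (hG.pow_p ha hx h')
  exact h' ((hG.commute_iff ha hx).mpr (by rw [h1, one_pow]))

/-- The midpoint of a non-commuting pair is unique. -/
theorem midpoint_unique [Finite G] (hG : Good p D) (hp : p.Prime) (hp2 : p ≠ 2) {x y a : G}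
    (hx : x ∈ D) (hy : y ∈ D) (ha : a ∈ D) (hxa : ¬ Commute x a) (hya : ¬ Commute y a)
    (h : x * a * x = y * a * y) : x = y := by
  let N := {q : G × G // q.1 ∈ D ∧ q.2 ∈ D ∧ ¬ Commute q.1 q.2}
  let F : N → N := fun q => ⟨(q.1.2, q.1.1 * q.1.2 * q.1.1), q.2.2.1, hG.mul_mem q.2.1 q.2.2.1,
    hG.not_commute_move hp hp2 q.2.1 q.2.2.1 q.2.2.2⟩
  have hs : Function.Surjective F := by
    rintro ⟨⟨u, v⟩, hu, hv, huv⟩
    obtain ⟨z, hz, hzu, hzv⟩ := hG.exists_swapper hp hp2 hu hv huv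
    exact ⟨⟨(z, u), hz, hu, hzu⟩, Subtype.ext (by simp only [F, hzv])⟩
  have hi := Finite.injective_iff_surjective.mpr hs
  have := hi (a₁ := ⟨(x, a), hx, ha, hxa⟩) (a₂ := ⟨(y, a), hy, ha, hya⟩)
    (Subtype.ext (by simp only [F, h]))
  exact congrArg (fun q : N => q.1.1) this

/-- A member commuting with `xy` commutes with `x` and `y`. -/
theorem commute_of_commute_mul [Finite G] (hG : Good p D) (hp : p.Prime) (hp2 : p ≠ 2) {x y a : G}
    (hx : x ∈ D) (hy : y ∈ D) (ha : a ∈ D) (hne : x ≠ y) (h : Commute a (x * y)) :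
    Commute a x ∧ Commute a y := by
  have e : x * a * x = y * a * y := by
    have e1 : x * a * (x * y) = y * a := by
      rw [mul_assoc, h.eq, ← mul_assoc, ← mul_assoc, hG.mul_self hx, one_mul]
    calc x * a * x = x * a * (x * y) * y := by
          simp only [mul_assoc]; rw [hG.mul_self hy, mul_one]
      _ = _ := by rw [e1]
  have fix_iff : ∀ z ∈ D, (Commute z a ↔ z * a * z = a) := by
    intro z hz
    constructor
    · intro hc; rw [hc.eq, mul_assoc, hG.mul_self hz, mul_one]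
    · intro hc
      show z * a = a * z
      calc z * a = z * a * (z * z) := by rw [hG.mul_self hz, mul_one]
        _ = a * z := by rw [← mul_assoc, hc]
  by_cases hxa : Commute x a
  · exact ⟨hxa.symm, ((fix_iff y hy).mpr (e ▸ (fix_iff x hx).mp hxa)).symm⟩
  · by_cases hya : Commute y a
    · exact absurd ((fix_iff x hx).mpr (e.trans ((fix_iff y hy).mp hya))) hxa
    · exact absurd (hG.midpoint_unique hp hp2 hx hy ha hxa hya e) hne

theorem comap (hG : Good p D) (f : H →* G) (hf : Function.Injective f) : Good p (f ⁻¹' D) where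
  two := fun d hd => by rw [← orderOf_injective f hf d]; exact hG.two _ hd
  conj := fun g d hd => by
    show f (g * d * g⁻¹) ∈ D
    rw [map_mul, map_mul, map_inv]; exact hG.conj _ _ hd
  prod := fun a ha b hb => by
    rcases hG.prod _ ha _ hb with h | h
    · exact Or.inl (hf (by rw [map_pow, map_mul, h, map_one]))
    · exact Or.inr (hf (by rw [map_pow, map_mul, h, map_one]))

theorem image (hG : Good p D) (f : G →* H) (hf : Function.Surjective f) :
    Good p (f '' D \ {1}) where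
  two := by
    rintro _ ⟨⟨d, hd, rfl⟩, h1⟩
    exact orderOf_eq_prime (by rw [← map_pow, pow_two, hG.mul_self hd, map_one])
      (fun h => h1 (by simpa using h))
  conj := by
    rintro h _ ⟨⟨d, hd, rfl⟩, h1⟩
    obtain ⟨g, rfl⟩ := hf h
    refine ⟨⟨g * d * g⁻¹, hG.conj g d hd, by simp⟩, fun h' => h1 ?_⟩
    rw [Set.mem_singleton_iff] at h' ⊢
    exact conj_eq_one_iff.mp h'
  prod := by
    rintro _ ⟨⟨a, ha, rfl⟩, -⟩ _ ⟨⟨b, hb, rfl⟩, -⟩
    rcases hG.prod a ha b hb with h | h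
    · exact Or.inl (by rw [← map_mul, ← map_pow, h, map_one])
    · exact Or.inr (by rw [← map_mul, ← map_pow, h, map_one])

theorem closure_image (f : G →* H) (hgen : Subgroup.closure D = ⊤) (hf : Function.Surjective f) :
    Subgroup.closure (f '' D \ {1}) = ⊤ := by
  rw [eq_top_iff, ← Subgroup.map_top_of_surjective f hf, ← hgen, MonoidHom.map_closure,
    Subgroup.closure_le]
  intro z hz
  by_cases h1 : z = 1
  · rw [h1]; exact one_mem _
  · exact Subgroup.subset_closure ⟨hz, h1⟩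

/-- Inclusion of commuting sets gives twins, for conjugate members. -/
theorem tw_of_subset [Finite G] (hG : Good p D) {a b g : G} (ha : a ∈ D) (hb : b ∈ D)
    (hg : g * a * g⁻¹ = b) (h : ∀ y ∈ D, Commute y a → Commute y b) : Tw D a b := by
  let Ca : Set G := {y | y ∈ D ∧ Commute y a}
  let Cb : Set G := {y | y ∈ D ∧ Commute y b}
  have hsub : Ca ⊆ Cb := fun y hy => ⟨hy.1, h y hy.1 hy.2⟩
  have himg : (fun y => g * y * g⁻¹) '' Ca = Cb := by
    apply Set.Subset.antisymm
    · rintro _ ⟨y, hy, rfl⟩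
      refine ⟨hG.conj g y hy.1, ?_⟩
      rw [← hg]; exact (Commute.conj_iff g).mpr hy.2
    · rintro y hy
      refine ⟨g⁻¹ * y * g⁻¹⁻¹, ⟨hG.conj g⁻¹ y hy.1, ?_⟩, by group⟩
      have : a = g⁻¹ * b * g⁻¹⁻¹ := by rw [← hg]; group
      rw [this]; exact (Commute.conj_iff g⁻¹).mpr hy.2
  have hcard : Cb.ncard = Ca.ncard := by
    rw [← himg, Set.ncard_image_of_injective]
    intro y z hyz
    simpa using hyz
  have heq : Ca = Cb := Set.eq_of_subset_of_ncard_le hsub hcard.le (Set.toFinite _)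
  refine ⟨ha, hb, fun y hy => ⟨h y hy, fun hc => ?_⟩⟩
  exact ((Set.ext_iff.mp heq y).mpr ⟨hy, hc⟩).2

theorem tw_conj (hG : Good p D) {a b : G} (g : G) (h : Tw D a b) :
    Tw D (g * a * g⁻¹) (g * b * g⁻¹) := by
  refine ⟨hG.conj g a h.1, hG.conj g b h.2.1, fun y hy => ?_⟩
  have e : y = g * (g⁻¹ * y * g⁻¹⁻¹) * g⁻¹ := by group
  rw [e, Commute.conj_iff, Commute.conj_iff]
  exact h.2.2 _ (hG.conj g⁻¹ y hy)

end Good

end CfsgLib.OddTransp48
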