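import Cfsg.Agent.OddTransp48.Minimal
import Mathlib.GroupTheory.GroupAction.SubMulAction
import Mathlib.GroupTheory.GroupAction.FixedPoints

/-!
# The blocks of pairwise commuting members of `D` and the action of the group on them
-/

set_option autoImplicit false
set_option linter.style.haveILetI false

open Cfsg

namespace CfsgLib.OddTransp48

/-- A set of group elements, acted on by conjugation. -/
@[ext]
structure CSet (G : Type*) where
  /-- The underlying set. -/
  s : Set G

variable {G : Type*} [Group G] {p : ℕ} {D : Set G}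

instance : SMul G (CSet G) := ⟨fun g B => ⟨(fun x => g * x * g⁻¹) '' B.s⟩⟩

theorem CSet.smul_def (g : G) (B : CSet G) : (g • B).s = (fun x => g * x * g⁻¹) '' B.s := rfl

instance : MulAction G (CSet G) where
  one_smul B := by ext : 1; simp [CSet.smul_def]
  mul_smul g h B := by
    ext : 1; rw [CSet.smul_def, CSet.smul_def, CSet.smul_def, Set.image_image]
    simp [mul_assoc]

instance [Finite G] : Finite (CSet G) :=
  Finite.of_injective (fun B : CSet G => B.s) fun _ _ h => CSet.ext h

/-- The members of `D` commuting with `a`. -/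
def cblock (D : Set G) (a : G) : CSet G := ⟨{d | d ∈ D ∧ Commute d a}⟩

theorem mem_cblock {a d : G} : d ∈ (cblock D a).s ↔ d ∈ D ∧ Commute d a := Iff.rfl

theorem Good.smul_cblock (hG : Good p D) (g a : G) :
    g • cblock D a = cblock D (g * a * g⁻¹) := by
  ext d
  constructor
  · rintro ⟨e, ⟨he, hc⟩, rfl⟩
    exact ⟨hG.conj g e he, (Commute.conj_iff g).mpr hc⟩
  · rintro ⟨hd, hc⟩
    refine ⟨g⁻¹ * d * g⁻¹⁻¹, ⟨hG.conj g⁻¹ d hd, ?_⟩, by group⟩
    have h := (Commute.conj_iff g⁻¹).mpr hc
    have e : g⁻¹ * (g * a * g⁻¹) * g⁻¹⁻¹ = a := by group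
    rwa [e] at h

/-- The blocks. -/
def Good.blocks (hG : Good p D) : SubMulAction G (CSet G) where
  carrier := cblock D '' D
  smul_mem' := by
    rintro g _ ⟨a, ha, rfl⟩
    exact ⟨_, hG.conj g a ha, (hG.smul_cblock g a).symm⟩

/-- The block of a member. -/
def Good.bk (hG : Good p D) {a : G} (ha : a ∈ D) : ↥hG.blocks := ⟨cblock D a, a, ha, rfl⟩

theorem Good.smul_bk (hG : Good p D) (g : G) {a : G} (ha : a ∈ D) :
    g • hG.bk ha = hG.bk (hG.conj g a ha) := Subtype.ext (hG.smul_cblock g a)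

theorem Good.exists_bk (hG : Good p D) (B : ↥hG.blocks) : ∃ a, ∃ ha : a ∈ D, B = hG.bk ha := by
  obtain ⟨_, a, ha, rfl⟩ := B
  exact ⟨a, ha, rfl⟩

/-- The facts about commuting proved for a minimal counterexample. -/
structure Flat (p : ℕ) (D : Set G) : Prop extends Min p D where
  trans : ∀ a ∈ D, ∀ b ∈ D, ∀ c ∈ D, Commute a b → Commute b c → Commute a c
  mul : ∀ a ∈ D, ∀ b ∈ D, Commute a b → a ≠ b → a * b ∈ D
  partner : ∀ a ∈ D, ∃ b ∈ D, b ≠ a ∧ Commute a b

namespace Flat

variable (hF : Flat p D)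
include hF

theorem bk_eq_iff {a b : G} (ha : a ∈ D) (hb : b ∈ D) :
    hF.good.bk ha = hF.good.bk hb ↔ Commute a b := by
  constructor
  · intro h
    have h' : cblock D a = cblock D b := congrArg Subtype.val h
    have : a ∈ (cblock D a).s := ⟨ha, Commute.refl a⟩
    rw [h'] at this
    exact this.2
  · intro h
    refine Subtype.ext (CSet.ext (Set.ext fun d => ?_))
    exact ⟨fun hd => ⟨hd.1, hF.trans d hd.1 a ha b hb hd.2 h⟩,
      fun hd => ⟨hd.1, hF.trans d hd.1 b hb a ha hd.2 h.symm⟩⟩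

theorem mem_iff_bk {a d : G} (ha : a ∈ D) :
    d ∈ (hF.good.bk ha).1.s ↔ d ∈ D ∧ Commute d a := Iff.rfl

theorem smul_bk_eq_iff {a d : G} (ha : a ∈ D) (hd : d ∈ D) :
    d • hF.good.bk ha = hF.good.bk ha ↔ Commute d a := by
  rw [hF.good.smul_bk, hF.bk_eq_iff]
  constructor
  · intro h
    by_contra hc
    refine hF.good.not_commute_move hF.prime hF.toMin.ne_two hd ha hc ?_
    rw [hF.good.inv_eq hd] at h
    exact h.symm
  · intro h
    rw [h.eq, mul_inv_cancel_right]

omit hF in
theorem smul_smul_self (hG : Good p D) {d : G} (hd : d ∈ D) (B : ↥hG.blocks) : d • d • B = B := by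
  rw [smul_smul, hG.mul_self hd, one_smul]

end Flat

end CfsgLib.OddTransp48
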