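import Cfsg.Agent.OddTransp48.Basic
import Mathlib.Algebra.Group.Subgroup.Lattice

/-!
# Four commuting members with trivial product

From a commuting pair `u, v` and a member `x` commuting with neither, such that `uv` commutes with all
its "one step" conjugates, we get `a, b, c ∈ D`, pairwise commuting and distinct, with `abc ∈ D`.
-/

set_option autoImplicit false

namespace CfsgLib.OddTransp48

variable {G : Type*} [Group G] {p : ℕ} {D : Set G}

theorem exists_four [Finite G] (hG : Good p D) (hp : p.Prime) (hp5 : 5 ≤ p) {u v x : G}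
    (hu : u ∈ D) (hv : v ∈ D) (hx : x ∈ D) (huv : Commute u v) (hne : u ≠ v)
    (hxu : ¬ Commute x u) (hxv : ¬ Commute x v)
    (hs : ∀ y ∈ D, ¬ Commute y u → ¬ Commute y v → Commute (u * v) (y * (u * v) * y)) :
    ∃ a ∈ D, ∃ b ∈ D, ∃ c ∈ D, a * b * c ∈ D ∧ Commute a b ∧ Commute a c ∧ Commute b c ∧
      a ≠ b ∧ a ≠ c ∧ b ≠ c := by
  classical
  have hp2 : p ≠ 2 := by omega
  have hxu' : ¬ Commute u x := fun h => hxu h.symm
  obtain ⟨r, hr⟩ := hp.odd_of_ne_two hp2
  set g := u * x with hg
  set s := u * v with hsdef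
  have hgp : g ^ p = 1 := hG.pow_p hu hx hxu'
  have hord : orderOf g = p := hG.orderOf_mul hp hu hx hxu'
  have hus : Commute u s := (Commute.refl u).mul_right huv
  have huu : u * u = 1 := hG.mul_self hu
  have hug : u * g * u⁻¹ = g⁻¹ := by
    have := hG.swap_pow hu hx 1
    simpa [hG.inv_eq hu, hg] using this
  -- powers of `g` and the involution `u`
  have hupow : ∀ k : ℕ, u * g ^ k * u = (g ^ k)⁻¹ := fun k => by
    rw [hG.swap_pow hu hx k, inv_pow]
  -- a conjugate of `x` by a nontrivial power does not centralise `v`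
  have hsk : ∀ k : ℕ, Commute s ((g ^ k)⁻¹ * s * g ^ k) := by
    intro k
    set y := u * g ^ k with hy
    have hyD : y ∈ D := hG.mul_pow_mem hp hp2 hu hx hxu' k
    have hyy : y * s * y = (g ^ k)⁻¹ * s * g ^ k := by
      have e : y = (g ^ k)⁻¹ * u := by
        rw [← hupow k, mul_assoc _ u u, huu, mul_one]
      calc y * s * y = (g ^ k)⁻¹ * u * s * (u * g ^ k) := by rw [← hy, ← e]
        _ = (g ^ k)⁻¹ * (u * s * u) * g ^ k := by simp only [mul_assoc]
        _ = _ := by rw [hus.eq, mul_assoc s, huu, mul_one]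
    by_cases hk : g ^ k = 1
    · rw [hk, inv_one, one_mul, mul_one]
    have hyu : ¬ Commute y u := by
      intro hc
      have h2 : (g ^ k) ^ 2 = 1 := by
        rw [pow_two]
        have e : u * g ^ k * u = g ^ k := by
          have := hc.eq
          rw [hy] at this
          rw [this, ← mul_assoc, huu, one_mul]
        rw [hupow k] at e
        nth_rewrite 1 [← e]
        exact inv_mul_cancel _
      exact hk (eq_one_of_sq_of_pow hp hp2 h2 (by rw [← pow_mul, mul_comm, pow_mul, hgp, one_pow]))
    have hyv : ¬ Commute y v := by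
      intro hc
      have h1 : Commute (g ^ k) v := by
        have : g ^ k = u * y := by rw [hy, ← mul_assoc, huu, one_mul]
        rw [this]; exact huv.mul_left hc
      obtain ⟨m, hm⟩ : ∃ m : ℕ, (g ^ k) ^ m = g := by
        have hcop : k.Coprime (orderOf g) := by
          rw [hord]
          exact (hp.coprime_iff_not_dvd.mpr fun hd => hk (by
            obtain ⟨t, rfl⟩ := hd; rw [pow_mul, hgp, one_pow])).symm
        exact exists_pow_eq_self_of_coprime hcop
      have h2 : Commute g v := by rw [← hm]; exact h1.pow_left m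
      have : x = u * g := by rw [hg, ← mul_assoc, huu, one_mul]
      exact hxv (by rw [this]; exact huv.mul_left h2)
    rw [← hyy]; exact hs y hyD hyu hyv
  -- the abelian group generated by the conjugates of `s` under `g`
  let T : Set G := Set.range fun k : ℕ => (g ^ k)⁻¹ * s * g ^ k
  let U : Subgroup G := Subgroup.closure T
  have hsU : s ∈ U := Subgroup.subset_closure ⟨0, by simp⟩
  have hTcomm : ∀ a ∈ T, ∀ b ∈ T, Commute a b := by
    rintro _ ⟨i, rfl⟩ _ ⟨j, rfl⟩
    wlog hij : i ≤ j generalizing i j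
    · exact (this j i (by omega)).symm
    obtain ⟨d, rfl⟩ := Nat.exists_eq_add_of_le hij
    have h := (hsk d).map (MulAut.conj (g ^ i)⁻¹).toMonoidHom
    have e : (g ^ (i + d))⁻¹ * s * g ^ (i + d) =
        (g ^ i)⁻¹ * ((g ^ d)⁻¹ * s * g ^ d) * g ^ i := by
      rw [add_comm i d, pow_add, mul_inv_rev]; simp only [mul_assoc]
    simp only [MulEquiv.coe_toMonoidHom, MulAut.conj_apply, inv_inv] at h
    simp only
    rw [e]; exact h
  have hUcomm : ∀ a ∈ U, ∀ b ∈ U, Commute a b := by
    intro a ha b hb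
    induction ha using Subgroup.closure_induction with
    | mem a ha =>
      induction hb using Subgroup.closure_induction with
      | mem b hb => exact hTcomm a ha b hb
      | one => exact Commute.one_right _
      | mul _ _ _ _ h1 h2 => exact h1.mul_right h2
      | inv _ _ h1 => exact h1.inv_right
    | one => exact Commute.one_left _
    | mul _ _ _ _ h1 h2 => exact h1.mul_left h2
    | inv _ _ h1 => exact h1.inv_left
  have hUsq : ∀ a ∈ U, a * a = 1 := by
    intro a ha
    induction ha using Subgroup.closure_induction with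
    | mem a ha =>
      obtain ⟨i, rfl⟩ := ha
      have : s * s = 1 := by
        rw [hsdef, show u * v * (u * v) = u * (v * u) * v by simp only [mul_assoc], ← huv.eq,
          ← mul_assoc, huu, one_mul, hG.mul_self hv]
      calc (g ^ i)⁻¹ * s * g ^ i * ((g ^ i)⁻¹ * s * g ^ i) = (g ^ i)⁻¹ * (s * s) * g ^ i := by group
        _ = 1 := by rw [this, mul_one, inv_mul_cancel]
    | one => rw [one_mul]
    | mul a b ha hb h1 h2 =>
      rw [show a * b * (a * b) = a * (b * a) * b by simp only [mul_assoc], hUcomm b hb a ha,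
        ← mul_assoc, h1, one_mul, h2]
    | inv a _ h1 => rw [← mul_inv_rev, h1, inv_one]
  have hUu : ∀ a ∈ U, u * a * u ∈ U := by
    intro a ha
    induction ha using Subgroup.closure_induction with
    | mem a ha =>
      obtain ⟨i, rfl⟩ := ha
      refine Subgroup.subset_closure ⟨(p - 1) * i, ?_⟩
      have e : g ^ ((p - 1) * i) = (g ^ i)⁻¹ := by
        refine eq_inv_of_mul_eq_one_left ?_
        rw [← pow_add, ← add_one_mul, Nat.sub_add_cancel (show 1 ≤ p by omega), pow_mul, hgp, one_pow]
      show (g ^ ((p - 1) * i))⁻¹ * s * g ^ ((p - 1) * i) = _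
      rw [e, inv_inv]
      have e1 : g ^ i = u * (g ^ i)⁻¹ * u := by
        have := congrArg (fun z => u * z * u) (hupow i)
        simp only [mul_assoc] at this
        rw [← mul_assoc u u, huu, one_mul, mul_one] at this
        simpa only [mul_assoc] using this
      calc g ^ i * s * (g ^ i)⁻¹ = u * (g ^ i)⁻¹ * u * s * (u * g ^ i * u) := by rw [← e1, hupow i]
        _ = u * ((g ^ i)⁻¹ * (u * s * u) * g ^ i) * u := by simp only [mul_assoc]
        _ = _ := by rw [hus.eq, mul_assoc s, huu, mul_one]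
    | one => rw [mul_one, huu]; exact one_mem _
    | mul a b _ _ h1 h2 =>
      have : u * (a * b) * u = (u * a * u) * (u * b * u) := by
        simp only [mul_assoc]; rw [← mul_assoc u u, huu, one_mul]
      rw [this]; exact mul_mem h1 h2
    | inv a _ h1 =>
      have : u * a⁻¹ * u = (u * a * u)⁻¹ := by
        rw [mul_inv_rev, mul_inv_rev, hG.inv_eq hu, mul_assoc]
      rw [this]; exact inv_mem h1
  let φ : G → G := fun q => u * q * u * q
  have hφU : ∀ q ∈ U, φ q ∈ U := fun q hq => mul_mem (hUu q hq) hq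
  have hφu : ∀ q ∈ U, Commute u (φ q) := by
    intro q hq
    have h := hUcomm _ (hUu q hq) q hq
    show u * φ q = φ q * u
    simp only [φ]
    calc u * (u * q * u * q) = q * u * q := by
          simp only [← mul_assoc]; rw [huu, one_mul]
      _ = q * (u * q * u) * u := by simp only [mul_assoc]; rw [huu, mul_one]
      _ = _ := by rw [← h.eq]
  have hφmul : ∀ q ∈ U, ∀ q' ∈ U, φ (q * q') = φ q * φ q' := by
    intro q hq q' hq'
    have e : u * (q * q') * u = (u * q * u) * (u * q' * u) := by
      simp only [mul_assoc]; rw [← mul_assoc u u, huu, one_mul]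
    simp only [φ]
    rw [e, mul_assoc (u * q * u) q, ← mul_assoc q (u * q' * u), hUcomm q hq _ (hUu q' hq')]
    simp only [mul_assoc]
  have hfD : ∀ q ∈ U, u * φ q ∈ D := by
    intro q hq
    have hqq : q⁻¹ = q := inv_eq_of_mul_eq_one_right (hUsq q hq)
    have : u * φ q = q * u * q⁻¹ := by
      rw [hqq]; simp only [φ, ← mul_assoc]; rw [huu, one_mul]
    rw [this]; exact hG.conj q u hu
  by_contra hcon
  have hall : ∀ q ∈ U, ∀ q' ∈ U, φ q ≠ 1 → φ q' ≠ 1 → φ q = φ q' := by
    intro q hq q' hq' h1 h2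
    by_contra h3
    refine hcon ⟨u, hu, u * φ q, hfD q hq, u * φ q', hfD q' hq', ?_, ?_, ?_, ?_, ?_, ?_, ?_⟩
    · have : u * (u * φ q) * (u * φ q') = u * φ (q * q') := by
        have hc := hφu q hq
        rw [hφmul q hq q' hq']
        revert hc
        generalize φ q = A
        generalize φ q' = B
        intro hc
        rw [← mul_assoc u u, huu, one_mul, ← mul_assoc, ← mul_assoc, hc.eq]
      rw [this]; exact hfD _ (mul_mem hq hq')
    · exact (Commute.refl u).mul_right (hφu q hq)
    · exact (Commute.refl u).mul_right (hφu q' hq')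
    · exact ((Commute.refl u).mul_right (hφu q' hq')).mul_left
        ((hφu q hq).symm.mul_right (hUcomm _ (hφU q hq) _ (hφU q' hq')))
    · intro h; exact h1 (mul_eq_left.mp h.symm)
    · intro h; exact h2 (mul_eq_left.mp h.symm)
    · intro h; exact h3 (mul_left_cancel h)
  let f : Fin p → Bool × Bool := fun i =>
    (decide (φ ((g ^ (i : ℕ))⁻¹ * s * g ^ (i : ℕ)) = 1),
      decide (φ ((g ^ ((i : ℕ) + 1))⁻¹ * s * g ^ ((i : ℕ) + 1)) = 1))
  obtain ⟨i, j, hij, hf⟩ := Fintype.exists_ne_map_eq_of_card_lt f (by simp; omega)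
  have hmem : ∀ k : ℕ, (g ^ k)⁻¹ * s * g ^ k ∈ U := fun k => Subgroup.subset_closure ⟨k, rfl⟩
  have heq : ∀ q ∈ U, ∀ q' ∈ U, decide (φ q = 1) = decide (φ q' = 1) → φ q = φ q' := by
    intro q hq q' hq' h
    rw [decide_eq_decide] at h
    by_cases h1 : φ q = 1
    · rw [h1, h.mp h1]
    · exact hall q hq q' hq' h1 fun h2 => h1 (h.mpr h2)
  simp only [f, Prod.mk.injEq] at hf
  set si := (g ^ (i : ℕ))⁻¹ * s * g ^ (i : ℕ) with hsi
  set sj := (g ^ (j : ℕ))⁻¹ * s * g ^ (j : ℕ) with hsj
  set ti := (g ^ ((i : ℕ) + 1))⁻¹ * s * g ^ ((i : ℕ) + 1)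
  set tj := (g ^ ((j : ℕ) + 1))⁻¹ * s * g ^ ((j : ℕ) + 1)
  have eti : ti = g⁻¹ * si * g := by
    simp only [ti, si, pow_succ, mul_inv_rev, mul_assoc]
  have etj : tj = g⁻¹ * sj * g := by
    simp only [tj, sj, pow_succ, mul_inv_rev, mul_assoc]
  have hkill : ∀ a ∈ U, ∀ b ∈ U, φ a = φ b → Commute u (a * b) := by
    intro a ha b hb h
    have hab : φ (a * b) = 1 := by
      rw [hφmul a ha b hb, h]; exact hUsq _ (hφU b hb)
    have hab2 : (a * b)⁻¹ = a * b := inv_eq_of_mul_eq_one_right (hUsq _ (mul_mem ha hb))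
    have e := eq_inv_of_mul_eq_one_left hab
    rw [hab2] at e
    show u * (a * b) = a * b * u
    calc u * (a * b) = u * (a * b) * (u * u) := by rw [huu, mul_one]
      _ = _ := by rw [← mul_assoc, e]
  have c1 : Commute u (si * sj) :=
    hkill _ (hmem _) _ (hmem _) (heq _ (hmem _) _ (hmem _) hf.1)
  have c2 : Commute u (g⁻¹ * (si * sj) * g) := by
    have := hkill _ (hmem ((i : ℕ) + 1)) _ (hmem ((j : ℕ) + 1)) (heq _ (hmem _) _ (hmem _) hf.2)
    have e : g⁻¹ * (si * sj) * g = ti * tj := by rw [eti, etj]; group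
    rw [e]; exact this
  set y := si * sj
  have cg : Commute g y := by
    have h1 : Commute (g * u * g⁻¹) y := by
      have := c2.map (MulAut.conj g).toMonoidHom
      simp only [MulEquiv.coe_toMonoidHom, MulAut.conj_apply] at this
      have e : g * (g⁻¹ * y * g) * g⁻¹ = y := by group
      rwa [e] at this
    have h2 : Commute (g * g) y := by
      have e : g * g = (g * u * g⁻¹) * u := by
        have h4 : (u * g * u⁻¹)⁻¹ = g := by rw [hug, inv_inv]
        calc g * g = g * (u * g * u⁻¹)⁻¹ := by rw [h4]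
          _ = g * u * g⁻¹ * u⁻¹ := by group
          _ = _ := by rw [hG.inv_eq hu]
      rw [e]; exact h1.mul_left c1
    have : g = (g * g) ^ (r + 1) := by
      rw [← pow_two, ← pow_mul, show 2 * (r + 1) = p + 1 by omega, pow_succ, hgp, one_mul]
    rw [this]; exact h2.pow_left _
  -- two equal conjugates give a contradiction
  have cy : ∀ k : ℕ, Commute (g ^ k) y := fun k => cg.pow_left k
  have key : ∀ i j : ℕ, i < j → j < p →
      (g ^ i)⁻¹ * s * g ^ i * ((g ^ j)⁻¹ * s * g ^ j) = y → False := by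
    intro i j hlt hjp he
    obtain ⟨d, rfl⟩ := Nat.exists_eq_add_of_le hlt.le
    have h1 : s * ((g ^ d)⁻¹ * s * g ^ d) = y := by
      have : g ^ i * y * (g ^ i)⁻¹ = y := by rw [(cy i).eq, mul_inv_cancel_right]
      rw [← this, ← he, add_comm i d, pow_add, mul_inv_rev]; group
    have hs2 : s * s = 1 := by simpa using hUsq s hsU
    have h2 : (g ^ d)⁻¹ * s * g ^ d = s * y := by rw [← h1, ← mul_assoc s s, hs2, one_mul]
    have hyy : y * y = 1 := hUsq y (mul_mem (hmem _) (hmem _))
    have h3 : Commute (g ^ d * g ^ d) s := by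
      have e : (g ^ d * g ^ d)⁻¹ * s * (g ^ d * g ^ d) = s := by
        calc _ = (g ^ d)⁻¹ * ((g ^ d)⁻¹ * s * g ^ d) * g ^ d := by group
          _ = (g ^ d)⁻¹ * (s * y) * g ^ d := by rw [h2]
          _ = ((g ^ d)⁻¹ * s * g ^ d) * y := by
            simp only [mul_assoc]; rw [(cy d).symm.eq]
          _ = s := by rw [h2, mul_assoc, hyy, mul_one]
      show _ * s = s * _
      nth_rewrite 1 [← e]; group
    have hd : ¬ p ∣ 2 * d := by
      intro hd
      rcases hp.dvd_mul.mp hd with h | h
      · exact hp2 ((Nat.prime_dvd_prime_iff_eq hp Nat.prime_two).mp h)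
      · have := Nat.le_of_dvd (by omega) h; omega
    obtain ⟨m, hm⟩ : ∃ m : ℕ, (g ^ (2 * d)) ^ m = g :=
      exists_pow_eq_self_of_coprime (by rw [hord]; exact (hp.coprime_iff_not_dvd.mpr hd).symm)
    have hgs : Commute g s := by
      rw [← hm, two_mul, pow_add]; exact h3.pow_left m
    have hxs : Commute x (u * v) := by
      have : x = u * g := by rw [hg, ← mul_assoc, huu, one_mul]
      rw [this]; exact hus.mul_left hgs
    exact hxu (hG.commute_of_commute_mul hp hp2 hu hv hx hne hxs).1
  rcases lt_or_gt_of_ne (fun h : (i : ℕ) = j => hij (Fin.ext h)) with h | h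
  · exact key i j h j.2 rfl
  · exact key j i h i.2 (hUcomm _ (hmem _) _ (hmem _)).eq

end CfsgLib.OddTransp48
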