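import Cfsg.Agent.OddTransp48.SolvableCons
import Cfsg.Agent.ZStar.Theorem
import Cfsg.Agent.BaerSuzuki.Basic

/-!
# A minimal counterexample: commuting is transitive, and commuting pairs lie in four-groups inside `D`
-/

set_option autoImplicit false
set_option linter.style.haveILetI false

open Cfsg

namespace CfsgLib.OddTransp48

universe u

variable {G : Type u} [Group G]

/-- The properties of a minimal counterexample. -/
structure Min (p : ℕ) (D : Set G) : Prop where
  good : Good p D
  prime : p.Prime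
  five : 5 ≤ p
  nonempty : D.Nonempty
  gen : Subgroup.closure D = ⊤
  rad : ∀ N : Subgroup G, N.Normal → Group.IsSolvable ↥N → N = ⊥
  sol : ∀ H : Subgroup G, H ≠ ⊤ → Group.IsSolvable ↥(Subgroup.closure (D ∩ (H : Set G)))

variable {p : ℕ} {D : Set G}

namespace Min

theorem ne_two (hM : Min p D) : p ≠ 2 := by have := hM.five; omega

theorem center_eq_bot (hM : Min p D) : Subgroup.center G = ⊥ :=
  hM.rad _ inferInstance (Group.isSolvable_of_comm fun a b => Subtype.ext (Subgroup.mem_center_iff.mp b.2 a))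

theorem centralizer_ne_top (hM : Min p D) {z : G} (hz : z ≠ 1) :
    Subgroup.centralizer ({z} : Set G) ≠ ⊤ := fun h => hz (by
  have hc : z ∈ Subgroup.center G := Subgroup.mem_center_iff.mpr fun g => by
    have hg : g ∈ Subgroup.centralizer ({z} : Set G) := h ▸ Subgroup.mem_top g
    exact Subgroup.mem_centralizer_singleton_iff.mp hg
  rwa [hM.center_eq_bot, Subgroup.mem_bot] at hc)

theorem pCore_two_eq_bot [Finite G] (hM : Min p D) : pCore 2 G = ⊥ :=
  haveI := Fact.mk Nat.prime_two
  hM.rad _ inferInstance (by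
    haveI := (Constrained.isPGroup_pCore (G := G) (p := 2)).isNilpotent
    infer_instance)

theorem restrict [Finite G] (hM : Min p D) {H : Subgroup G} (hH : H ≠ ⊤) :
    let K := Subgroup.closure (D ∩ (H : Set G))
    Good p (K.subtype ⁻¹' D) ∧ Subgroup.closure (K.subtype ⁻¹' D) = ⊤ ∧ Group.IsSolvable ↥K := by
  intro K
  refine ⟨hM.good.comap K.subtype K.subtype_injective, ?_, hM.sol H hH⟩
  rw [eq_top_iff]
  rintro ⟨x, hx⟩ -
  induction hx using Subgroup.closure_induction with
  | mem y hy => exact Subgroup.subset_closure (show y ∈ D from hy.1)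
  | one => exact one_mem _
  | mul y z _ _ h1 h2 => exact mul_mem h1 h2
  | inv y _ h1 => exact inv_mem h1

/-- In a proper subgroup, a commuting pair with a common non-commuting member is "good". -/
theorem sq_eq_one_of_proper [Finite G] (hM : Min p D) {H : Subgroup G} (hH : H ≠ ⊤) {u v x : G}
    (hu : u ∈ D) (hv : v ∈ D) (hx : x ∈ D) (hu' : u ∈ H) (hv' : v ∈ H) (hx' : x ∈ H)
    (huv : Commute u v) (hxu : ¬ Commute x u) (hxv : ¬ Commute x v)
    (hpp : ((u * v * x) ^ 2) ^ p = 1) : (u * v * x) ^ 2 = 1 := by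
  obtain ⟨hG', hgen', hsol⟩ := hM.restrict hH
  set K := Subgroup.closure (D ∩ (H : Set G))
  haveI := hsol
  have mem : ∀ d ∈ D, d ∈ H → d ∈ K := fun d hd hd' => Subgroup.subset_closure ⟨hd, hd'⟩
  let U : ↥K := ⟨u, mem u hu hu'⟩
  let V : ↥K := ⟨v, mem v hv hv'⟩
  let X : ↥K := ⟨x, mem x hx hx'⟩
  have h := mul_mem_pCore_two hG' hM.prime hgen' hM.five (a := U) (b := V) (x := X) hu hv hx
    (Subtype.ext huv.eq) (fun h => hxu (congrArg Subtype.val h.eq))
    (fun h => hxv (congrArg Subtype.val h.eq))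
  have e : (U * V * X) ^ 2 = U * V * (X * (U * V) * X⁻¹) := by
    rw [hG'.inv_eq (a := X) hx, pow_two]; simp only [mul_assoc]
  have h2 : (U * V * X) ^ 2 ∈ pCore 2 ↥K := by
    rw [e]; exact mul_mem h ((Constrained.instNormalPCore 2).conj_mem _ h X)
  have := eq_one_of_mem_two_pow hM.prime hM.ne_two h2 (Subtype.ext (by simpa [U, V, X] using hpp))
  simpa [U, V, X] using congrArg Subtype.val this

/-- Three pairwise commuting members of a proper subgroup with central product: one is central. -/
theorem exists_central_of_three [Finite G] (hM : Min p D) {H : Subgroup G} (hH : H ≠ ⊤) {a b c z : G}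
    (ha : a ∈ D) (hb : b ∈ D) (hc : c ∈ D) (ha' : a ∈ H) (hb' : b ∈ H) (hc' : c ∈ H)
    (hab : Commute a b) (habc : a * b * c = z)
    (hz : z = 1 ∨ (z ∈ D ∧ z ∈ H ∧ ∀ y ∈ D, y ∈ H → Commute z y)) :
    ∃ d, (d = a ∨ d = b ∨ d = c) ∧ ∀ y ∈ D, y ∈ H → Commute y d := by
  obtain ⟨hG', hgen', hsol⟩ := hM.restrict hH
  set K := Subgroup.closure (D ∩ (H : Set G))
  haveI := hsol
  haveI := Fact.mk Nat.prime_two
  have mem : ∀ d ∈ D, d ∈ H → d ∈ K := fun d hd hd' => Subgroup.subset_closure ⟨hd, hd'⟩
  let A : ↥K := ⟨a, mem a ha ha'⟩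
  let B : ↥K := ⟨b, mem b hb hb'⟩
  let C : ↥K := ⟨c, mem c hc hc'⟩
  have hprod : A * B * C ∈ pCore 2 ↥K := by
    rcases hz with rfl | ⟨hzD, hzH, hzc⟩
    · rw [show A * B * C = 1 from Subtype.ext habc]; exact one_mem _
    let Z : ↥K := ⟨z, mem z hzD hzH⟩
    have hZc : Z ∈ Subgroup.center ↥K := by
      rw [Subgroup.mem_center_iff]
      rintro ⟨y, hy⟩
      refine Subtype.ext ?_
      show y * z = z * y
      induction hy using Subgroup.closure_induction with
      | mem y hy => exact (hzc y hy.1 hy.2).eq.symm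
      | one => rw [one_mul, mul_one]
      | mul x y _ _ h1 h2 => rw [mul_assoc, h2, ← mul_assoc, h1, mul_assoc]
      | inv x _ h1 => exact (Commute.inv_left (show Commute x z from h1)).eq
    have hle : Subgroup.zpowers Z ≤ pCore 2 ↥K := by
      refine Constrained.le_pCore ?_ ?_
      · refine ⟨fun w hw g => ?_⟩
        have : w ∈ Subgroup.center ↥K := (Subgroup.zpowers_le.mpr hZc) hw
        rwa [Subgroup.mem_center_iff.mp this g, mul_inv_cancel_right]
      · rintro ⟨_, k, rfl⟩
        refine ⟨1, Subtype.ext ?_⟩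
        simp only [pow_one, SubmonoidClass.coe_pow, OneMemClass.coe_one]
        rw [← zpow_natCast, ← zpow_mul, mul_comm, zpow_mul, zpow_natCast, pow_two,
          show Z * Z = 1 from Subtype.ext (hM.good.mul_self hzD), one_zpow]
    rw [show A * B * C = Z from Subtype.ext habc]
    exact hle (Subgroup.mem_zpowers Z)
  have key : ∀ d : ↥K, (d : G) ∈ D → d ∈ pCore 2 ↥K → ∀ y ∈ D, y ∈ H → Commute y (d : G) := by
    intro d hd hdO y hy hy'
    have := commute_of_mem_pCore_two hG' hM.prime hM.ne_two (d := d) (y := ⟨y, mem y hy hy'⟩) hd hy hdO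
    exact (congrArg Subtype.val this.eq).symm
  by_cases hA : A ∈ pCore 2 ↥K
  · exact ⟨a, Or.inl rfl, key A ha hA⟩
  by_cases hB : B ∈ pCore 2 ↥K
  · exact ⟨b, Or.inr (Or.inl rfl), key B hb hB⟩
  by_cases hC : C ∈ pCore 2 ↥K
  · exact ⟨c, Or.inr (Or.inr rfl), key C hc hC⟩
  exact (no_three_pCore_two hG' hM.prime hgen' hM.ne_two (a := A) (b := B) (c := C) ha hb hc
    (Subtype.ext hab.eq) hA hB hC hprod).elim

/-- `D` is a single class. -/
theorem isConj [Finite G] (hM : Min p D) {a b : G} (ha : a ∈ D) (hb : b ∈ D) :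
    ∃ g, g * a * g⁻¹ = b := by
  by_contra h
  push Not at h
  have hcomm : ∀ g : G, Commute b (g * a * g⁻¹) := by
    intro g
    by_contra hnc
    obtain ⟨x, hx, -, hxb⟩ := hM.good.exists_swapper hM.prime hM.ne_two (hM.good.conj g a ha) hb
      fun h' => hnc h'.symm
    exact h (x * g) (by rw [← hxb, mul_inv_rev, hM.good.inv_eq hx]; simp only [mul_assoc])
  set N := Subgroup.closure (Set.range fun g : G => g * a * g⁻¹) with hN
  haveI : N.Normal := by
    constructor
    intro n hn g
    induction hn using Subgroup.closure_induction with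
    | mem y hy =>
      obtain ⟨k, rfl⟩ := hy
      exact Subgroup.subset_closure ⟨g * k, by simp only [mul_inv_rev, mul_assoc]⟩
    | one => simp
    | mul x y _ _ h1 h2 =>
      rw [show g * (x * y) * g⁻¹ = g * x * g⁻¹ * (g * y * g⁻¹) by group]; exact mul_mem h1 h2
    | inv x _ h1 => rw [show g * x⁻¹ * g⁻¹ = (g * x * g⁻¹)⁻¹ by group]; exact inv_mem h1
  have haN : a ∈ N := Subgroup.subset_closure ⟨1, by simp⟩
  have hbN : N ≤ Subgroup.centralizer ({b} : Set G) := by
    rw [hN, Subgroup.closure_le]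
    rintro _ ⟨g, rfl⟩
    exact Subgroup.mem_centralizer_singleton_iff.mpr (hcomm g).symm.eq
  by_cases hNT : N = ⊤
  · rw [hNT, top_le_iff] at hbN
    exact hM.centralizer_ne_top (hM.good.ne_one hb) hbN
  haveI := hM.sol N hNT
  have hle : N ≤ Subgroup.closure (D ∩ (N : Set G)) := by
    conv_lhs => rw [hN]
    rw [Subgroup.closure_le]
    rintro _ ⟨g, rfl⟩
    exact Subgroup.subset_closure ⟨hM.good.conj g a ha, Subgroup.subset_closure ⟨g, rfl⟩⟩
  have hsolN : Group.IsSolvable ↥N := Group.isSolvable_of_isSolvable_injective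
    (f := Subgroup.inclusion hle) (Subgroup.inclusion_injective hle)
  rw [hM.rad N inferInstance hsolN, Subgroup.mem_bot] at haN
  exact hM.good.ne_one ha haN

theorem tw_of_subset [Finite G] (hM : Min p D) {a b : G} (ha : a ∈ D) (hb : b ∈ D)
    (h : ∀ y ∈ D, Commute y a → Commute y b) : Tw D a b := by
  obtain ⟨g, hg⟩ := hM.isConj ha hb
  exact hM.good.tw_of_subset ha hb hg h

/-- The dichotomy for a commuting pair and a common non-commuting member. -/
theorem dichotomy [Finite G] (hM : Min p D) {u v x : G} (hu : u ∈ D) (hv : v ∈ D) (hx : x ∈ D)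
    (huv : Commute u v) (hne : u ≠ v) (hxu : ¬ Commute x u) (hxv : ¬ Commute x v) :
    u * v ∈ D ∨ Commute (u * v) (x * (u * v) * x) := by
  have hG := hM.good
  set s := u * v with hs
  have hss : s * s = 1 := by rw [← pow_two]; exact (hG.commute_iff hu hv).mp huv
  have hxx := hG.mul_self hx
  have hprod : (s * x) ^ 2 = s * (x * s * x) := by rw [pow_two]; simp only [mul_assoc]
  have hgood : (s * x) ^ 2 = 1 → Commute s (x * s * x) := by
    intro h
    rw [hprod] at h
    have e := eq_inv_of_mul_eq_one_right h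
    rw [e]; exact (Commute.refl s).inv_right
  have hD : (((s * x) ^ 2) ^ 2 = 1) ∨ ((s * x) ^ 2) ^ p = 1 := by
    have e : (s * x) ^ 2 = (s * x * s⁻¹) * x := by
      rw [inv_eq_of_mul_eq_one_right hss, pow_two]; simp only [mul_assoc]
    rw [e]; exact hG.prod _ (hG.conj s x hx) x hx
  rcases hD with h | h
  · refine Or.inr ?_
    rw [hprod, pow_two] at h
    have htt : (x * s * x) * (x * s * x) = 1 := by
      rw [← conj_involution hxx, hss, mul_one, hxx]
    show s * (x * s * x) = x * s * x * s
    rw [eq_inv_of_mul_eq_one_left h, mul_inv_rev, inv_eq_of_mul_eq_one_right hss,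
      inv_eq_of_mul_eq_one_right htt]
  obtain ⟨r, hr⟩ := hM.prime.odd_of_ne_two hM.ne_two
  set g := s * x with hg
  have hinv : g⁻¹ = x * s := by
    rw [hg, mul_inv_rev, hG.inv_eq hx, inv_eq_of_mul_eq_one_right hss]
  have hxgx : ∀ k : ℕ, x * g ^ k * x = (g⁻¹) ^ k := by
    intro k
    have h1 : x * g * x⁻¹ = g⁻¹ := by
      rw [hinv, hg, hG.inv_eq hx]; simp only [mul_assoc]; rw [hxx, mul_one]
    calc x * g ^ k * x = x * g ^ k * x⁻¹ := by rw [hG.inv_eq hx]
      _ = (x * g * x⁻¹) ^ k := conj_pow.symm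
      _ = _ := by rw [h1]
  have hsgx : s = g * x := by rw [hg, mul_assoc, hxx, mul_one]
  have hconjx : ∀ k : ℕ, g ^ k * x * (g ^ k)⁻¹ = g ^ (k + k) * x := by
    intro k
    have h2 : x * (g ^ k)⁻¹ = g ^ k * x := by
      have h3 := hxgx k
      rw [inv_pow] at h3
      rw [← h3]; simp only [← mul_assoc]; rw [hxx, one_mul]
    rw [mul_assoc, h2, ← mul_assoc, pow_add]
  by_cases hz1 : g ^ p = 1
  · refine Or.inl ?_
    have : s = g ^ (r + 1) * x * (g ^ (r + 1))⁻¹ := by
      rw [hconjx, show r + 1 + (r + 1) = p + 1 by omega, pow_succ, hz1, one_mul, ← hsgx]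
    rw [this]; exact hG.conj _ x hx
  -- here `z = (sx)^p` is a central involution of the triangle
  refine Or.inr (hgood ?_)
  set z := g ^ p with hzdef
  set k := g ^ r with hk
  have hzz : z * z = 1 := by rw [← pow_two, hzdef, ← pow_mul, mul_comm, pow_mul, h]
  have hzx : z * x = k * s * k⁻¹ := by
    have e : s * k⁻¹ = g * (k * x) := by
      have h2 : x * k⁻¹ = k * x := by
        have h3 := hxgx r
        rw [inv_pow] at h3
        rw [hk, ← h3]; simp only [← mul_assoc]; rw [hxx, one_mul]
      rw [hsgx, mul_assoc, h2]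
    rw [mul_assoc, e, hzdef, hk, ← mul_assoc g, ← mul_assoc, ← pow_succ', ← pow_add,
      show r + (r + 1) = p by omega]
  have hzcx : Commute z x := by
    show z * x = x * z
    have h3 := hxgx p
    rw [← hzdef, inv_pow, ← hzdef, inv_eq_of_mul_eq_one_right hzz] at h3
    nth_rewrite 1 [← h3]
    simp only [mul_assoc]; rw [hxx, mul_one]
  have hzcs : Commute z s := by
    rw [hsgx]; exact ((Commute.refl g).pow_left p).mul_right hzcx
  have hxs' : Commute x (k * u * k⁻¹ * (k * v * k⁻¹)) := by
    rw [show k * u * k⁻¹ * (k * v * k⁻¹) = k * s * k⁻¹ by rw [hs]; group, ← hzx]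
    exact hzcx.symm.mul_right (Commute.refl x)
  obtain ⟨hyu', hyv'⟩ := hG.commute_of_commute_mul hM.prime hM.ne_two (hG.conj k u hu)
    (hG.conj k v hv) hx (fun e => hne (by simpa using e)) hxs'
  set y := k⁻¹ * x * k with hy
  have hyD : y ∈ D := by
    have := hG.conj k⁻¹ x hx
    rwa [inv_inv] at this
  have conjback : ∀ w : G, Commute x (k * w * k⁻¹) → Commute y w := by
    intro w hw
    have := (Commute.conj_iff k⁻¹).mpr hw
    rw [inv_inv, show k⁻¹ * (k * w * k⁻¹) * k = w by group] at this
    exact this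
  have hyu := conjback u hyu'
  have hyv := conjback v hyv'
  have hz : z = s * y := by
    have hkz : Commute k z := Commute.pow_pow (Commute.refl g) r p
    have e : k⁻¹ * (z * x) * k = s := by rw [hzx]; group
    have e2 : z * y = s := by
      rw [← e, hy]
      have := hkz.inv_left.eq
      calc z * (k⁻¹ * x * k) = (z * k⁻¹) * x * k := by simp only [mul_assoc]
        _ = (k⁻¹ * z) * x * k := by rw [this]
        _ = _ := by simp only [mul_assoc]
    rw [← e2, mul_assoc, hG.mul_self hyD, mul_one]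
  have huz : Commute u z := by
    rw [hz, hs]; exact ((Commute.refl u).mul_right huv).mul_right hyu.symm
  have hvz : Commute v z := by
    rw [hz, hs]; exact (huv.symm.mul_right (Commute.refl v)).mul_right hyv.symm
  exact hM.sq_eq_one_of_proper (hM.centralizer_ne_top hz1) hu hv hx
    (Subgroup.mem_centralizer_singleton_iff.mpr huz.eq)
    (Subgroup.mem_centralizer_singleton_iff.mpr hvz.eq)
    (Subgroup.mem_centralizer_singleton_iff.mpr hzcx.symm.eq) huv hxu hxv h

theorem klein_tw [Finite G] (hM : Min p D) {u v : G} (hu : u ∈ D) (hv : v ∈ D) (huv : Commute u v)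
    (hs : u * v ∈ D) : Tw D u v := by
  refine hM.tw_of_subset hu hv fun y hy hyu => ?_
  have e : v * (u * v) = u := by rw [huv.eq, ← mul_assoc, hM.good.mul_self hv, one_mul]
  have hne : v ≠ u * v := fun h => hM.good.ne_one hu (mul_eq_right.mp h.symm)
  exact (hM.good.commute_of_commute_mul hM.prime hM.ne_two hv hs hy hne (by rwa [e])).1

variable (hFT : ∀ (K : Type u) [Group K] [Finite K], Odd (Nat.card K) → Group.IsSolvable K)

include hFT in
/-- Some two distinct members commute. -/
theorem exists_commuting [Finite G] (hM : Min p D) : ∃ u ∈ D, ∃ v ∈ D, u ≠ v ∧ Commute u v := by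
  haveI := Fact.mk Nat.prime_two
  by_contra h
  push Not at h
  obtain ⟨d, hd⟩ := hM.nonempty
  have hiso : IsIsolated d := fun g hc => by
    by_contra hne
    exact h d hd _ (hM.good.conj g d hd) (Ne.symm hne) hc
  have hz := ZStar.inZStar_of_isolated (hM.good.two d hd) hiso
  have hodd : Odd (Nat.card ↥(pPrimeCore 2 G)) := by
    rw [← Nat.not_even_iff_odd, even_iff_two_dvd]; exact Constrained.pPrimeCore_not_dvd
  have hbot := hM.rad _ (Constrained.instNormalPPrimeCore 2) (hFT _ hodd)
  refine hM.good.ne_one hd ?_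
  have hc : d ∈ Subgroup.center G := Subgroup.mem_center_iff.mpr fun g => by
    have := hz g
    rw [hbot, Subgroup.mem_bot, mul_inv_eq_one, mul_inv_eq_iff_eq_mul] at this
    exact this
  rwa [hM.center_eq_bot, Subgroup.mem_bot] at hc

include hFT in
/-- Some commuting pair has a common non-commuting member. -/
theorem exists_triangle [Finite G] (hM : Min p D) : ∃ u ∈ D, ∃ v ∈ D, ∃ x ∈ D,
    u ≠ v ∧ Commute u v ∧ ¬ Commute x u ∧ ¬ Commute x v := by
  obtain ⟨u, hu, v, hv, hne, huv⟩ := hM.exists_commuting hFT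
  by_contra h
  push Not at h
  have htr : ∀ a ∈ D, ∀ b ∈ D, ∀ c ∈ D, ¬ Commute a b → ¬ Commute b c → a ≠ c → ¬ Commute a c := by
    intro a ha b hb c hc hab hbc hne' hac
    exact hbc (h a ha c hc b hb hne' hac fun h' => hab h'.symm)
  let E : G → Prop := fun y => y ∈ D ∧ (y = u ∨ ¬ Commute y u)
  have step : ∀ d ∈ D, ∀ y, E y → E (d * y * d) := by
    intro d hd y ⟨hy, hyE⟩
    by_cases hdy : Commute d y
    · rw [hdy.eq, mul_assoc, hM.good.mul_self hd, mul_one]; exact ⟨hy, hyE⟩
    have hw := hM.good.mul_mem hd hy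
    have hyw := hM.good.not_commute_move hM.prime hM.ne_two hd hy hdy
    refine ⟨hw, or_iff_not_imp_left.mpr fun hwu => ?_⟩
    rcases hyE with rfl | hyu
    · exact fun h' => hyw h'.symm
    · exact htr _ hw y hy u hu (fun h' => hyw h'.symm) hyu hwu
  have hall : ∀ g : G, (∀ y, E y → E (g * y * g⁻¹)) ∧ ∀ y, E y → E (g⁻¹ * y * g⁻¹⁻¹) := by
    intro g
    have hg : g ∈ Subgroup.closure D := hM.gen ▸ Subgroup.mem_top g
    induction hg using Subgroup.closure_induction with
    | mem d hd =>
      constructor <;> intro y hy <;> simpa [hM.good.inv_eq hd] using step d hd y hy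
    | one => simp
    | mul a b _ _ ha hb =>
      constructor
      · intro y hy
        simpa [mul_assoc] using ha.1 _ (hb.1 y hy)
      · intro y hy
        simpa [mul_assoc] using hb.2 _ (ha.2 y hy)
    | inv a _ ha =>
      refine ⟨ha.2, fun y hy => ?_⟩
      rw [inv_inv]; exact ha.1 y hy
  obtain ⟨g, hg⟩ := hM.isConj hu hv
  obtain ⟨-, h' | h'⟩ := hg ▸ (hall g).1 u ⟨hu, Or.inl rfl⟩
  · exact hne h'.symm
  · exact h' huv.symm

include hFT in
theorem exists_twins [Finite G] (hM : Min p D) : ∃ a b, Tw D a b ∧ a ≠ b := by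
  by_contra h
  push Not at h
  obtain ⟨u, hu, v, hv, x, hx, hne, huv, hxu, hxv⟩ := hM.exists_triangle hFT
  obtain ⟨a, ha, b, hb, c, hc, he, hab, hac, hbc, nab, nac, nbc⟩ :=
    exists_four hM.good hM.prime hM.five hu hv hx huv hne hxu hxv fun y hy hyu hyv =>
      (hM.dichotomy hu hv hy huv hne hyu hyv).resolve_left fun hs =>
        hne (h u v (hM.klein_tw hu hv huv hs))
  set e := a * b * c with hedef
  have hcomm : ∀ w, w = b ∨ w = c ∨ w = e → Commute w a := by
    rintro w (rfl | rfl | rfl)
    · exact hab.symm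
    · exact hac.symm
    · exact ((Commute.refl a).mul_left hab.symm).mul_left hac.symm
  have hprod : b * c * e = a := by
    have hbb := hM.good.mul_self hb
    have hcc := hM.good.mul_self hc
    have e2 : e = a * (b * c) := by rw [hedef, mul_assoc]
    have hbca : Commute (b * c) a := hab.symm.mul_left hac.symm
    rw [e2, ← mul_assoc, hbca.eq, mul_assoc, ← pow_two, hbc.mul_pow, pow_two, pow_two, hbb, hcc,
      mul_one, mul_one]
  have memC : ∀ w, Commute w a → w ∈ Subgroup.centralizer ({a} : Set G) := fun w hw =>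
    Subgroup.mem_centralizer_singleton_iff.mpr hw.eq
  obtain ⟨d, hd, hdc⟩ := hM.exists_central_of_three (hM.centralizer_ne_top (hM.good.ne_one ha))
    hb hc he (memC b (hcomm b (Or.inl rfl))) (memC c (hcomm c (Or.inr (Or.inl rfl))))
    (memC e (hcomm e (Or.inr (Or.inr rfl)))) hbc hprod
    (Or.inr ⟨ha, memC a (Commute.refl a), fun y _ hy =>
      (Subgroup.mem_centralizer_singleton_iff.mp hy).symm⟩)
  have hdD : d ∈ D := by rcases hd with rfl | rfl | rfl <;> assumption
  have had : a ≠ d := by
    rcases hd with rfl | rfl | rfl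
    · exact nab
    · exact nac
    · intro e'
      rw [hedef, mul_assoc] at e'
      exact nbc ((mul_eq_one_iff_eq_inv.mp (mul_eq_left.mp e'.symm)).trans (hM.good.inv_eq hc))
  exact had (h a d (hM.tw_of_subset ha hdD fun y hy hya => hdc y hy (memC y hya)))

/-- All twin pairs generate four-groups inside `D`. -/
theorem twins_mul_mem [Finite G] (hM : Min p D) {u v : G} (h : Tw D u v) (hne : u ≠ v) :
    u * v ∈ D := by
  haveI := Fact.mk Nat.prime_two
  have hG := hM.good
  have hu := h.1
  have hv := h.2.1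
  have huv := h.commute
  by_contra hs
  set s := u * v with hsdef
  have hss : s * s = 1 := by rw [← pow_two]; exact (hG.commute_iff hu hv).mp huv
  have hfix : ∀ d ∈ D, Tw D (s * d * s) d := by
    intro d hd
    by_cases hdu : Commute d u
    · have : Commute d s := hdu.mul_right ((h.2.2 d hd).mp hdu)
      rw [this.symm.eq, mul_assoc, hss, mul_one]; exact Tw.refl hd
    obtain ⟨x, hx, hxu, hxd⟩ := hG.exists_swapper hM.prime hM.ne_two hu hd fun h' => hdu h'.symm
    have hxv : ¬ Commute x v := fun h' => hxu ((h.2.2 x hx).mpr h')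
    have hc := (hM.dichotomy hu hv hx huv hne hxu hxv).resolve_left hs
    set d' := x * v * x with hd'def
    have hd' : d' ∈ D := hG.mul_mem hx hv
    have hdd : Tw D d d' := by
      have := hG.tw_conj x h
      rwa [hG.inv_eq hx, hxd] at this
    have hne' : d ≠ d' := by
      rw [← hxd, hd'def]; intro e; exact hne (by simpa using e)
    have hprod : x * s * x = d * d' := by
      rw [hsdef, conj_involution (hG.mul_self hx), hxd]
    rw [hprod] at hc
    have hw : ∀ w ∈ D, s * w * s ∈ D := fun w hw' => by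
      have := hG.conj s w hw'; rwa [inv_eq_of_mul_eq_one_right hss] at this
    have hww : (s * d * s) * (s * d' * s) = d * d' := by
      rw [← conj_involution hss, hc.eq, mul_assoc, hss, mul_one]
    refine (hM.tw_of_subset hd (hw d hd) fun y hy hyd => ?_).symm
    refine (hG.commute_of_commute_mul hM.prime hM.ne_two (hw d hd) (hw d' hd') hy
      (fun e => hne' (by simpa using e)) ?_).1
    rw [hww]; exact hyd.mul_right ((hdd.2.2 y hy).mp hyd)
  have hstwo : orderOf s = 2 := orderOf_eq_prime (by rw [pow_two, hss]) fun e =>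
    hne ((mul_eq_one_iff_eq_inv.mp e).trans (hG.inv_eq hv))
  have hO : s ∈ pCore 2 G := by
    refine BaerSuzuki.mem_pCore s fun g => ?_
    have htwo : orderOf (g * s * g⁻¹) = 2 := by
      simpa using (MulEquiv.orderOf_eq (MulAut.conj g) s).trans hstwo
    set t := g * s * g⁻¹ with htdef
    have htt : t * t = 1 := by rw [← pow_two, ← htwo, pow_orderOf_eq_one]
    have hab := hG.tw_conj g h
    have hA := hfix _ hab.1
    have hB := hfix _ hab.2.1
    have htab : t = g * u * g⁻¹ * (g * v * g⁻¹) := by rw [htdef, hsdef]; group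
    set a := g * u * g⁻¹
    set b := g * v * g⁻¹
    have hsts : s * t * s = (s * a * s) * (s * b * s) := by rw [htab, conj_involution hss]
    have hc : Commute t (s * t * s) := by
      rw [hsts, htab]
      exact (hA.symm.commute.mul_right (hab.trans hB.symm).commute).mul_left
        ((hab.symm.trans hA.symm).commute.mul_right hB.symm.commute)
    refine BaerSuzuki.isPGroup_two_closure_pair hstwo htwo (a := 2) ?_
    have e : (s * t) ^ 2 ^ 2 = (s * t * s) * t * ((s * t * s) * t) := by
      simp [pow_succ, mul_assoc]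
    rw [e, ← pow_two, hc.symm.mul_pow, pow_two, pow_two, htt, mul_one, ← conj_involution hss, htt,
      mul_one, hss]
  rw [hM.pCore_two_eq_bot, Subgroup.mem_bot] at hO
  rw [hO, orderOf_one] at hstwo
  omega

include hFT in
/-- Commuting members are twins. -/
theorem tw_of_commute [Finite G] (hM : Min p D) {a y : G} (ha : a ∈ D) (hy : y ∈ D)
    (h : Commute a y) : Tw D a y := by
  obtain ⟨a₀, b₀, h0, hne0⟩ := hM.exists_twins hFT
  obtain ⟨g, hg⟩ := hM.isConj h0.1 ha
  set b := g * b₀ * g⁻¹ with hb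
  have htw : Tw D a b := hg ▸ hM.good.tw_conj g h0
  have hne : a ≠ b := by rw [← hg, hb]; intro e; exact hne0 (by simpa using e)
  have hc : a * b ∈ D := hM.twins_mul_mem htw hne
  have hac : Commute a (a * b) := (Commute.refl a).mul_right htw.commute
  have hA : a * (a * b) = b := by rw [← mul_assoc, hM.good.mul_self ha, one_mul]
  have htc : Tw D a (a * b) := hM.klein_tw ha hc hac (by rw [hA]; exact htw.2.1)
  have memC : ∀ w, Commute w y → w ∈ Subgroup.centralizer ({y} : Set G) := fun w hw =>
    Subgroup.mem_centralizer_singleton_iff.mpr hw.eq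
  have hby : Commute b y := ((htw.2.2 y hy).mp h.symm).symm
  obtain ⟨d, hd, hdc⟩ := hM.exists_central_of_three (hM.centralizer_ne_top (hM.good.ne_one hy))
    ha htw.2.1 hc (memC a h) (memC b hby) (memC _ (h.mul_left hby)) htw.commute
    (z := 1) (by rw [← pow_two]; exact (hM.good.commute_iff ha htw.2.1).mp htw.commute) (Or.inl rfl)
  have had : Tw D a d := by
    rcases hd with rfl | rfl | rfl
    · exact Tw.refl ha
    · exact htw
    · exact htc
  exact had.trans (hM.tw_of_subset hy had.2.1 fun z hz hzy => hdc z hz (memC z hzy)).symm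

include hFT in
theorem commute_trans [Finite G] (hM : Min p D) {a b c : G} (ha : a ∈ D) (hb : b ∈ D) (hc : c ∈ D)
    (hab : Commute a b) (hbc : Commute b c) : Commute a c :=
  ((hM.tw_of_commute hFT ha hb hab).trans (hM.tw_of_commute hFT hb hc hbc)).commute

include hFT in
theorem mul_mem [Finite G] (hM : Min p D) {a b : G} (ha : a ∈ D) (hb : b ∈ D) (hab : Commute a b)
    (hne : a ≠ b) : a * b ∈ D :=
  hM.twins_mul_mem (hM.tw_of_commute hFT ha hb hab) hne

include hFT in
theorem exists_partner [Finite G] (hM : Min p D) {a : G} (ha : a ∈ D) :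
    ∃ b ∈ D, b ≠ a ∧ Commute a b := by
  obtain ⟨a₀, b₀, h0, hne0⟩ := hM.exists_twins hFT
  obtain ⟨g, hg⟩ := hM.isConj h0.1 ha
  refine ⟨g * b₀ * g⁻¹, hM.good.conj g b₀ h0.2.1, ?_, ?_⟩
  · rw [← hg]; intro e; exact hne0 (by simpa using e.symm)
  · rw [← hg]; exact (Commute.conj_iff g).mpr h0.commute

end Min

end CfsgLib.OddTransp48
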