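import Cfsg.Agent.OddTransp48.FourSet
import Cfsg.Agent.Constrained.Fitting
import Cfsg.Agent.Eq.Def_Solvable

/-!
# Solvable groups generated by a set with products of order `1, 2, p`
-/

set_option autoImplicit false
set_option linter.style.haveILetI false

open Cfsg

namespace CfsgLib.OddTransp48

variable {G : Type*} [Group G]

theorem eq_one_of_mem_two_pow [Finite G] {p : ℕ} (hp : p.Prime) (hp2 : p ≠ 2) {x : G}
    (hx : x ∈ pCore 2 G) (hxp : x ^ p = 1) : x = 1 := by
  haveI := Fact.mk Nat.prime_two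
  obtain ⟨k, hk⟩ := (Constrained.isPGroup_pCore (G := G) (p := 2)) ⟨x, hx⟩
  have hk' : x ^ 2 ^ k = 1 := by simpa using congrArg Subtype.val hk
  have h : x ^ Nat.gcd (2 ^ k) p = 1 := pow_gcd_eq_one.mpr ⟨hk', hxp⟩
  rwa [Nat.coprime_iff_gcd_eq_one.mp
    (Nat.Coprime.pow_left k ((Nat.coprime_primes Nat.prime_two hp).mpr (Ne.symm hp2))), pow_one] at h

/-- Elements of prime order in the Fitting subgroup lie in the corresponding core. -/
theorem mem_pCore_of_mem_fitting [Finite G] {q : ℕ} (hq : q.Prime) {x : G}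
    (hx : x ∈ fittingSubgroup G) (hxq : x ^ q = 1) : x ∈ pCore q G := by
  haveI := Fact.mk hq
  have hZ : IsPGroup q ↥(Subgroup.zpowers (⟨x, hx⟩ : fittingSubgroup G)) := by
    rintro ⟨z, k, rfl⟩
    refine ⟨1, Subtype.ext (Subtype.ext ?_)⟩
    simp only [pow_one, SubmonoidClass.coe_pow, OneMemClass.coe_one, SubgroupClass.coe_zpow]
    rw [← zpow_natCast, ← zpow_mul, mul_comm k, zpow_mul, zpow_natCast, hxq, one_zpow]
  obtain ⟨Q, hQ⟩ := hZ.exists_le_sylow
  exact Constrained.map_sylow_le_pCore inferInstance Constrained.isNilpotent_fitting Q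
    ⟨⟨x, hx⟩, hQ (Subgroup.mem_zpowers _), rfl⟩

theorem eq_one_of_mem_fitting_sq [Finite G] (hO2 : pCore 2 G = ⊥) {x : G}
    (hx : x ∈ fittingSubgroup G) (h2 : x ^ 2 = 1) : x = 1 :=
  Subgroup.mem_bot.mp (hO2 ▸ mem_pCore_of_mem_fitting Nat.prime_two hx h2)

theorem eq_one_of_odd_of_fourth {x : G} (ho : Odd (orderOf x)) (h : x ^ 4 = 1) : x = 1 := by
  rw [← orderOf_eq_one_iff]
  have hd : orderOf x ∣ 2 ^ 2 := orderOf_dvd_of_pow_eq_one h
  obtain ⟨k, -, hk⟩ := (Nat.dvd_prime_pow Nat.prime_two).mp hd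
  rw [hk] at ho ⊢
  rcases k with _ | k
  · rfl
  · exact absurd ho (by simp [Nat.not_odd_iff_even, Nat.even_pow])

theorem conj_involution {t : G} (ht : t * t = 1) (u v : G) :
    t * (u * v) * t = t * u * t * (t * v * t) := by
  simp only [mul_assoc]
  rw [← mul_assoc t t, ht, one_mul]

theorem conj_involution_inv {t : G} (ht : t * t = 1) (u : G) :
    t * u⁻¹ * t = (t * u * t)⁻¹ := by
  rw [mul_inv_rev, mul_inv_rev, inv_eq_of_mul_eq_one_right ht, mul_assoc]

/-- An involution splits an odd-order group into fixed times inverted elements. -/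
theorem decompose {t : G} (P : Subgroup G) (ht : t * t = 1) (hn : ∀ f ∈ P, t * f * t ∈ P)
    (hodd : ∀ f ∈ P, Odd (orderOf f)) {f : G} (hf : f ∈ P) :
    ∃ h ∈ P, ∃ i ∈ P, f = h * i ∧ t * h * t = h ∧ t * i * t = i⁻¹ := by
  set m := f⁻¹ * (t * f * t) with hm
  have hmP : m ∈ P := mul_mem (inv_mem hf) (hn f hf)
  have hmt : t * m * t = m⁻¹ := by
    have e : t * (t * f * t) * t = f := by
      simp only [mul_assoc]; rw [ht, mul_one, ← mul_assoc, ht, one_mul]
    rw [hm, conj_involution ht, conj_involution_inv ht, e]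
    group
  obtain ⟨k, hk⟩ := hodd m hmP
  set i := (m⁻¹) ^ (k + 1) with hi
  have hii : i * i = m⁻¹ := by
    rw [hi, ← pow_add, show k + 1 + (k + 1) = orderOf m + 1 by omega, pow_succ, inv_pow,
      pow_orderOf_eq_one, inv_one, one_mul]
  have hit : t * i * t = i⁻¹ := by
    have e : t * i * t = (t * m⁻¹ * t) ^ (k + 1) := by
      rw [hi]
      have := conj_pow (i := k + 1) (a := t) (b := m⁻¹)
      rw [inv_eq_of_mul_eq_one_right ht] at this
      exact this.symm
    rw [e, conj_involution_inv ht, hmt, inv_inv, hi, inv_pow, inv_inv]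
  have hiP : i ∈ P := pow_mem (inv_mem hmP) _
  refine ⟨f * i⁻¹, mul_mem hf (inv_mem hiP), i, hiP, by group, ?_, hit⟩
  rw [conj_involution ht, conj_involution_inv ht, hit, inv_inv]
  have e : t * f * t = f * m := by rw [hm]; group
  rw [e, ← inv_inv m, ← hii]; group

theorem commute_iff_fixed {t f : G} (ht : t * t = 1) : Commute f t ↔ t * f * t = f := by
  constructor
  · intro h; rw [← h.eq, mul_assoc, ht, mul_one]
  · intro h
    show f * t = t * f
    nth_rewrite 1 [← h]
    rw [mul_assoc _ t t, ht, mul_one]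

/-- If `a` fixes what `b` fixes and what `ab` fixes in an odd-order group, it fixes everything. -/
theorem centralizes_of_two {a b : G} (P : Subgroup G) (ha : a * a = 1) (hb : b * b = 1)
    (hab : Commute a b) (hbn : ∀ f ∈ P, b * f * b ∈ P) (han : ∀ f ∈ P, a * f * a ∈ P)
    (hodd : ∀ f ∈ P, Odd (orderOf f)) (hfb : ∀ f ∈ P, Commute f b → Commute f a)
    (hfab : ∀ f ∈ P, Commute f (a * b) → Commute f a) : ∀ f ∈ P, Commute f a := by
  intro f hf
  obtain ⟨h, hhP, i, hiP, rfl, hh, hi⟩ := decompose P hb hbn hodd hf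
  refine (hfb h hhP ((commute_iff_fixed hb).mpr hh)).mul_left ?_
  set c := a * b with hc
  have hc2 : c * c = 1 := by
    rw [hc, show a * b * (a * b) = a * (b * a) * b by simp only [mul_assoc], ← hab.eq, ← mul_assoc,
      ha, one_mul, hb]
  have hcn : ∀ f ∈ P, c * f * c ∈ P := fun f hf => by
    have e : c * f * c = a * (b * f * b) * a := by
      rw [hc]; nth_rewrite 2 [hab.eq]; simp only [mul_assoc]
    rw [e]; exact han _ (hbn f hf)
  obtain ⟨k, hkP, j, hjP, rfl, hk, hj⟩ := decompose P hc2 hcn hodd hiP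
  have hka : Commute k a := hfab k hkP ((commute_iff_fixed hc2).mpr hk)
  have hbc : b = a * c := by rw [hc, ← mul_assoc, ha, one_mul]
  have hkb : b * k * b = k := by
    rw [← commute_iff_fixed hb, hbc]
    exact hka.mul_right ((commute_iff_fixed hc2).mpr hk)
  have e1 : b * j * b = k⁻¹ * j⁻¹ * k⁻¹ := by
    rw [conj_involution hb, hkb, mul_inv_rev] at hi
    rw [mul_assoc k⁻¹, ← hi, inv_mul_cancel_left]
  have hcb : Commute c b := by rw [hc]; exact hab.mul_left (Commute.refl b)
  have e2 : b * j⁻¹ * b = k⁻¹ * j * k⁻¹ := by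
    have := congrArg (fun z => c * z * c) e1
    have e3 : c * (b * j * b) * c = b * (c * j * c) * b := by
      calc c * (b * j * b) * c = (c * b) * j * (b * c) := by simp only [mul_assoc]
        _ = (b * c) * j * (c * b) := by rw [hcb.eq]
        _ = _ := by simp only [mul_assoc]
    rw [e3, hj, conj_involution hc2, conj_involution hc2, conj_involution_inv hc2,
      conj_involution_inv hc2, hk, hj, inv_inv] at this
    exact this
  have e4 : k⁻¹ * j⁻¹ * k⁻¹ = k * j⁻¹ * k := by
    rw [← e1, ← inv_inj, ← conj_involution_inv hb, e2]; group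
  have e5 : j * (k * k) * j⁻¹ = (k * k)⁻¹ := by
    calc j * (k * k) * j⁻¹ = j * k * (k * j⁻¹ * k) * k⁻¹ := by group
      _ = j * k * (k⁻¹ * j⁻¹ * k⁻¹) * k⁻¹ := by rw [e4]
      _ = _ := by group
  have e6 : Commute (j * j) (k * k) := by
    show j * j * (k * k) = k * k * (j * j)
    have : j * (j * (k * k) * j⁻¹) * j⁻¹ = k * k := by
      rw [e5, show j * (k * k)⁻¹ * j⁻¹ = (j * (k * k) * j⁻¹)⁻¹ by group, e5, inv_inv]
    nth_rewrite 2 [← this]
    group
  obtain ⟨r, hr⟩ := hodd j hjP
  have e7 : Commute j (k * k) := by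
    have : (j * j) ^ (r + 1) = j := by
      rw [← pow_two, ← pow_mul, show 2 * (r + 1) = orderOf j + 1 by omega, pow_succ,
        pow_orderOf_eq_one, one_mul]
    rw [← this]; exact e6.pow_left _
  have hk1 : k = 1 := by
    refine eq_one_of_odd_of_fourth (hodd k hkP) ?_
    rw [e7.eq, mul_inv_cancel_right] at e5
    have := mul_eq_one_iff_eq_inv.mpr e5
    simpa [pow_succ, mul_assoc] using this
  subst hk1
  simp only [inv_one, mul_one, one_mul] at e1 hi ⊢
  rw [commute_iff_fixed ha]
  have : a = c * b := by rw [hc, mul_assoc, hb, mul_one]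
  have this2 : a = b * c := this.trans hcb.eq
  calc a * j * a = c * b * j * (b * c) := by rw [← this, ← this2]
    _ = c * (b * j * b) * c := by simp only [mul_assoc]
    _ = j := by rw [e1, conj_involution_inv hc2, hj, inv_inv]

variable {p : ℕ} {D : Set G}

/-- For commuting distinct members, `a` fixes what `ab` fixes in `O_p`. -/
theorem pair_fix [Finite G] (hG : Good p D) (hp : p.Prime) (hp2 : p ≠ 2) {a b f : G} (ha : a ∈ D)
    (hb : b ∈ D) (hab : Commute a b) (hne : a ≠ b) (hf : f ∈ pCore p G)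
    (hfc : Commute f (a * b)) : Commute f a := by
  haveI := Fact.mk hp
  have hA := hG.mul_self ha
  set e := a * f * a * f⁻¹ with he
  have heP : e ∈ pCore p G := by
    refine mul_mem ?_ (inv_mem hf)
    have := (Constrained.instNormalPCore (G := G) p).conj_mem f hf a
    rwa [hG.inv_eq ha] at this
  have hodd : Odd (orderOf e) := by
    obtain ⟨k, hk⟩ := (Constrained.isPGroup_pCore (G := G) (p := p)) ⟨e, heP⟩
    have hk' : e ^ p ^ k = 1 := by simpa using congrArg Subtype.val hk
    exact ((hp.odd_of_ne_two hp2).pow).of_dvd_nat (orderOf_dvd_of_pow_eq_one hk')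
  have hca : Commute a (a * b) := (Commute.refl a).mul_right hab
  have hec : Commute e (a * b) :=
    (((hca.mul_left hfc).mul_left hca)).mul_left hfc.inv_left
  have hea : a * e * a = e⁻¹ := by
    rw [he, conj_involution hA, conj_involution_inv hA]
    have : a * (a * f * a) * a = f := by
      simp only [mul_assoc]; rw [hA, mul_one, ← mul_assoc, hA, one_mul]
    rw [this]; group
  have heb : b * e * b = e⁻¹ := by
    have hb' : b = a * (a * b) := by rw [← mul_assoc, hA, one_mul]
    have hc2 : (a * b) * (a * b) = 1 := by rw [← pow_two]; exact (hG.commute_iff ha hb).mp hab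
    nth_rewrite 2 [hb']; nth_rewrite 1 [hb']; rw [hca.eq]
    calc a * b * a * e * (a * b * a) = a * b * (a * e * (a * b)) * a := by simp only [mul_assoc]
      _ = a * b * (a * (a * b) * e) * a := by rw [mul_assoc a e, hec.eq, mul_assoc a (a * b) e]
      _ = a * b * (a * b) * (a * e * a) := by rw [hca.eq]; simp only [mul_assoc]
      _ = _ := by rw [hc2, one_mul, hea]
  set w := e⁻¹ * e⁻¹ with hw
  have hw1 : (e⁻¹ * a * e⁻¹⁻¹) * b = (a * b) * w := by
    have h1 : e⁻¹ * a = a * e := by rw [← hea]; rw [mul_assoc _ a a, hA, mul_one]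
    have h2 : e * b = b * e⁻¹ := by rw [← heb]; simp only [← mul_assoc]; rw [hG.mul_self hb, one_mul]
    have h3 : e⁻¹⁻¹ * b = b * e⁻¹ := by rw [inv_inv, h2]
    calc e⁻¹ * a * e⁻¹⁻¹ * b = a * e * (b * e⁻¹) := by rw [mul_assoc, h3, h1]
      _ = a * (e * b) * e⁻¹ := by simp only [mul_assoc]
      _ = _ := by rw [h2, hw]; simp only [mul_assoc]
  have hwc : Commute (a * b) w := (hec.symm.inv_right).mul_right hec.symm.inv_right
  have hfin : e = 1 := by
    have hc2 : (a * b) ^ 2 = 1 := (hG.commute_iff ha hb).mp hab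
    rcases hG.prod _ (hG.conj e⁻¹ a ha) _ hb with h | h
    · rw [hw1, hwc.mul_pow, hc2, one_mul] at h
      refine eq_one_of_odd_of_fourth hodd ?_
      rw [hw, pow_two] at h
      rw [← inv_eq_one, ← inv_pow]
      simpa [pow_succ, mul_assoc] using h
    · rw [hw1, hwc.mul_pow] at h
      obtain ⟨r, hr⟩ := hp.odd_of_ne_two hp2
      have hcp : (a * b) ^ p = a * b := by rw [hr, pow_succ, pow_mul, hc2, one_pow, one_mul]
      rw [hcp] at h
      have hab1 : a * b ∈ pCore p G := by
        rw [eq_inv_of_mul_eq_one_left h]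
        exact inv_mem (pow_mem (mul_mem (inv_mem heP) (inv_mem heP)) _)
      obtain ⟨k, hk⟩ := (Constrained.isPGroup_pCore (G := G) (p := p)) ⟨a * b, hab1⟩
      have hk' : (a * b) ^ p ^ k = 1 := by simpa using congrArg Subtype.val hk
      have h1 : (a * b) ^ Nat.gcd 2 (p ^ k) = 1 := pow_gcd_eq_one.mpr ⟨hc2, hk'⟩
      rw [Nat.coprime_iff_gcd_eq_one.mp
        (Nat.Coprime.pow_right k ((Nat.coprime_primes Nat.prime_two hp).mpr (Ne.symm hp2))),
        pow_one] at h1
      exact absurd ((mul_eq_one_iff_eq_inv.mp h1).trans (hG.inv_eq hb)) hne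
  rw [commute_iff_fixed hA]
  rwa [he, mul_inv_eq_one] at hfin

section Generated

variable [Finite G] (hG : Good p D) (hp : p.Prime) (hgen : Subgroup.closure D = ⊤)

include hG hp hgen

theorem rCore_le_center {r : ℕ} (hr : r.Prime) (hr2 : r ≠ 2) (hrp : r ≠ p) :
    pCore r G ≤ Subgroup.center G := by
  haveI := Fact.mk hr
  intro f hf
  rw [Subgroup.mem_center_iff]
  intro g
  have hg : g ∈ Subgroup.closure D := hgen ▸ Subgroup.mem_top g
  induction hg using Subgroup.closure_induction with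
  | mem d hd =>
    set e := d * (f * d * f⁻¹) with he
    have heR : e ∈ pCore r G := by
      have : e = (d * f * d⁻¹) * f⁻¹ := by rw [he, hG.inv_eq hd]; simp only [mul_assoc]
      rw [this]; exact mul_mem ((Constrained.instNormalPCore r).conj_mem f hf d) (inv_mem hf)
    obtain ⟨k, hk⟩ := (Constrained.isPGroup_pCore (G := G) (p := r)) ⟨e, heR⟩
    have hk' : e ^ r ^ k = 1 := by simpa using congrArg Subtype.val hk
    have he1 : e = 1 := by
      rcases hG.prod d hd _ (hG.conj f d hd) with h | h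
      · have h' : e ^ Nat.gcd 2 (r ^ k) = 1 := pow_gcd_eq_one.mpr ⟨h, hk'⟩
        rwa [Nat.coprime_iff_gcd_eq_one.mp
          (Nat.Coprime.pow_right k ((Nat.coprime_primes Nat.prime_two hr).mpr (Ne.symm hr2))),
          pow_one] at h'
      · have h' : e ^ Nat.gcd p (r ^ k) = 1 := pow_gcd_eq_one.mpr ⟨h, hk'⟩
        rwa [Nat.coprime_iff_gcd_eq_one.mp
          (Nat.Coprime.pow_right k ((Nat.coprime_primes hp hr).mpr (Ne.symm hrp))),
          pow_one] at h'
    rw [he, mul_eq_one_iff_eq_inv', hG.inv_eq hd] at he1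
    exact (mul_inv_eq_iff_eq_mul.mp he1).symm
  | one => rw [one_mul, mul_one]
  | mul x y _ _ h1 h2 => rw [mul_assoc, h2, ← mul_assoc, h1, mul_assoc]
  | inv x _ h1 => rw [eq_comm, eq_inv_mul_iff_mul_eq, ← mul_assoc, h1, mul_inv_cancel_right]

theorem fitting_le_centralizer {x : G} (h2 : ∀ f ∈ pCore 2 G, Commute f x)
    (hpc : ∀ f ∈ pCore p G, Commute f x) :
    fittingSubgroup G ≤ Subgroup.centralizer ({x} : Set G) := by
  rw [Constrained.fitting_eq_iSup_pCore]
  refine iSup₂_le fun r hr f hf => ?_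
  rw [Subgroup.mem_centralizer_singleton_iff]
  by_cases hr2 : r = 2
  · subst hr2; exact (h2 f hf).eq
  by_cases hrp : r = p
  · subst hrp; exact (hpc f hf).eq
  exact (Subgroup.mem_center_iff.mp (rCore_le_center hG hp hgen hr hr2 hrp hf) x).symm

theorem mem_fitting_of_centralizes [Group.IsSolvable G] {x : G}
    (h2 : ∀ f ∈ pCore 2 G, Commute f x) (hpc : ∀ f ∈ pCore p G, Commute f x) :
    x ∈ fittingSubgroup G := by
  apply Constrained.centralizer_fitting_le
  rw [Subgroup.mem_centralizer_iff]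
  intro f hf
  exact (Subgroup.mem_centralizer_singleton_iff.mp (fitting_le_centralizer hG hp hgen h2 hpc hf))

variable [Group.IsSolvable G] (hp2 : p ≠ 2) (hO2 : pCore 2 G = ⊥)

include hp2 hO2

theorem mem_fitting_of_centralizes_pCore {x : G} (hpc : ∀ f ∈ pCore p G, Commute f x) :
    x ∈ fittingSubgroup G :=
  mem_fitting_of_centralizes hG hp hgen
    (fun f hf => by rw [hO2, Subgroup.mem_bot] at hf; subst hf; exact Commute.one_left x) hpc

theorem pCore_odd {f : G} (hf : f ∈ pCore p G) : Odd (orderOf f) := by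
  haveI := Fact.mk hp
  obtain ⟨k, hk⟩ := (Constrained.isPGroup_pCore (G := G) (p := p)) ⟨f, hf⟩
  have hk' : f ^ p ^ k = 1 := by simpa using congrArg Subtype.val hk
  exact ((hp.odd_of_ne_two hp2).pow).of_dvd_nat (orderOf_dvd_of_pow_eq_one hk')

theorem conj_pCore {a f : G} (ha : a ∈ D) (hf : f ∈ pCore p G) : a * f * a ∈ pCore p G := by
  have := (Constrained.instNormalPCore (G := G) p).conj_mem f hf a
  rwa [hG.inv_eq ha] at this

theorem no_three {a b : G} (ha : a ∈ D) (hb : b ∈ D) (hab : Commute a b) (hne : a ≠ b)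
    (hc : a * b ∈ D) : False := by
  refine hG.ne_one ha (eq_one_of_mem_fitting_sq hO2 (mem_fitting_of_centralizes_pCore hG hp hgen
    hp2 hO2 ?_) (by rw [pow_two, hG.mul_self ha]))
  refine centralizes_of_two (pCore p G) (hG.mul_self ha) (hG.mul_self hb) hab
    (fun f hf => conj_pCore hG hp hgen hp2 hO2 hb hf) (fun f hf => conj_pCore hG hp hgen hp2 hO2 ha hf)
    (fun f hf => pCore_odd hG hp hgen hp2 hO2 hf) (fun f hf hfb => ?_)
    (fun f hf h => pair_fix hG hp hp2 ha hb hab hne hf h)
  have hca : Commute (a * b) a := (Commute.refl a).mul_left hab.symm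
  have hne' : a * b ≠ a := fun h => hG.ne_one hb (mul_eq_left.mp h)
  have e : a * b * a = b := by rw [hab.eq, mul_assoc, hG.mul_self ha, mul_one]
  have h1 : Commute f (a * b) :=
    pair_fix hG hp hp2 hc ha hca hne' hf (by rw [e]; exact hfb)
  exact pair_fix hG hp hp2 ha hb hab hne hf h1

theorem no_four {a b c : G} (ha : a ∈ D) (hb : b ∈ D) (hc : c ∈ D) (he : a * b * c ∈ D)
    (hab : Commute a b) (hac : Commute a c) (hbc : Commute b c) (nab : a ≠ b) (nac : a ≠ c)
    (nbc : b ≠ c) : False := by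
  refine hG.ne_one ha (eq_one_of_mem_fitting_sq hO2 (mem_fitting_of_centralizes_pCore hG hp hgen
    hp2 hO2 ?_) (by rw [pow_two, hG.mul_self ha]))
  have hodd := fun f hf => pCore_odd hG hp hgen hp2 hO2 (f := f) hf
  refine centralizes_of_two (pCore p G) (hG.mul_self ha) (hG.mul_self hb) hab
    (fun f hf => conj_pCore hG hp hgen hp2 hO2 hb hf) (fun f hf => conj_pCore hG hp hgen hp2 hO2 ha hf)
    hodd (fun f hf hfb => ?_) (fun f hf h => pair_fix hG hp hp2 ha hb hab nab hf h)
  let X : Subgroup G := pCore p G ⊓ Subgroup.centralizer ({b} : Set G)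
  have hX : ∀ {g : G}, g ∈ X ↔ g ∈ pCore p G ∧ Commute g b := fun {g} => by
    simp only [X, Subgroup.mem_inf, Subgroup.mem_centralizer_singleton_iff]; rfl
  refine centralizes_of_two X (hG.mul_self ha) (hG.mul_self hc) hac ?_ ?_ (fun f hf => hodd f (hX.mp hf).1)
    (fun g hg hgc => ?_) (fun g hg h => pair_fix hG hp hp2 ha hc hac nac (hX.mp hg).1 h)
    f (hX.mpr ⟨hf, hfb⟩)
  · intro g hg
    exact hX.mpr ⟨conj_pCore hG hp hgen hp2 hO2 hc (hX.mp hg).1,
      ((hbc.symm.mul_left (hX.mp hg).2).mul_left hbc.symm)⟩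
  · intro g hg
    exact hX.mpr ⟨conj_pCore hG hp hgen hp2 hO2 ha (hX.mp hg).1,
      ((hab.mul_left (hX.mp hg).2).mul_left hab)⟩
  · have e : a * (a * b * c) = b * c := by rw [← mul_assoc, ← mul_assoc, hG.mul_self ha, one_mul]
    refine pair_fix hG hp hp2 ha he (((Commute.refl a).mul_right hab).mul_right hac) ?_ (hX.mp hg).1
      (by rw [e]; exact (hX.mp hg).2.mul_right hgc)
    intro h
    rw [mul_assoc] at h
    have := mul_eq_left.mp h.symm
    exact nbc ((mul_eq_one_iff_eq_inv.mp this).trans (hG.inv_eq hc))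

end Generated

end CfsgLib.OddTransp48
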