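import Cfsg.Agent.OddTransp48.Solvable

/-!
# Consequences for solvable groups: the three properties used in the main induction

In a finite solvable group generated by such a set: a member in `O_2` commutes with all members;
commuting members with a common non-commuting member have product in `O_2`; three pairwise commuting
members outside `O_2` have product outside `O_2`.
-/

set_option autoImplicit false
set_option linter.style.haveILetI false

open Cfsg

namespace CfsgLib.OddTransp48

variable {G : Type*} [Group G] [Finite G] {p : ℕ} {D : Set G}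

section Core

variable (hG : Good p D) (hp : p.Prime) (hgen : Subgroup.closure D = ⊤) [Group.IsSolvable G]

include hG hp hgen

/-- `O_p(G / F(G)) = 1` here. -/
theorem pCore_quotient_fitting (hO2 : pCore 2 G = ⊥) :
    pCore p (G ⧸ fittingSubgroup G) = ⊥ := by
  haveI := Fact.mk hp
  set π := QuotientGroup.mk' (fittingSubgroup G) with hπ
  set X := (pCore p (G ⧸ fittingSubgroup G)).comap π with hX
  haveI : X.Normal := Subgroup.Normal.comap inferInstance π
  set ζ := QuotientGroup.mk' (Subgroup.center G) with hζ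
  -- the Fitting subgroup is a `p`-group modulo the centre
  have hF : ∀ f ∈ fittingSubgroup G, ∃ k : ℕ, f ^ p ^ k ∈ Subgroup.center G := by
    intro f hf
    have hle : fittingSubgroup G ≤ pCore p G ⊔ Subgroup.center G := by
      rw [Constrained.fitting_eq_iSup_pCore]
      refine iSup₂_le fun r hr => ?_
      by_cases hrp : r = p
      · subst hrp; exact le_sup_left
      by_cases hr2 : r = 2
      · subst hr2; rw [hO2]; exact bot_le
      exact le_sup_of_le_right (rCore_le_center hG hp hgen hr hr2 hrp)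
    have hmap : ζ f ∈ (pCore p G).map ζ := by
      have h : ζ f ∈ (pCore p G ⊔ Subgroup.center G).map ζ := ⟨f, hle hf, rfl⟩
      rw [Subgroup.map_sup] at h
      refine (sup_le le_rfl ?_ : (pCore p G).map ζ ⊔ (Subgroup.center G).map ζ ≤ _) h
      rw [hζ, QuotientGroup.map_mk'_self]; exact bot_le
    obtain ⟨k, hk⟩ := (Constrained.isPGroup_pCore.map ζ) ⟨ζ f, hmap⟩
    refine ⟨k, (QuotientGroup.eq_one_iff (f ^ p ^ k)).mp ?_⟩
    have := congrArg Subtype.val hk
    simpa [hζ] using this
  have hXF : X ≤ fittingSubgroup G := by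
    refine Constrained.le_fitting inferInstance ?_
    haveI : Group.IsNilpotent ↥(X.map ζ) := by
      refine IsPGroup.isNilpotent (p := p) ?_
      rintro ⟨_, x, hx, rfl⟩
      obtain ⟨i, hi⟩ := (Constrained.isPGroup_pCore (G := G ⧸ fittingSubgroup G) (p := p))
        ⟨π x, hx⟩
      have hi' : π (x ^ p ^ i) = 1 := by
        rw [map_pow]; simpa using congrArg Subtype.val hi
      obtain ⟨k, hk⟩ := hF _ ((QuotientGroup.eq_one_iff (x ^ p ^ i)).mp hi')
      refine ⟨i + k, Subtype.ext ?_⟩
      simp only [SubmonoidClass.coe_pow, OneMemClass.coe_one]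
      rw [← map_pow, pow_add, pow_mul]
      exact (QuotientGroup.eq_one_iff _).mpr hk
    refine Subgroup.isNilpotent_of_ker_le_center (ζ.subgroupMap X) fun x hx => ?_
    rw [Subgroup.mem_center_iff]
    intro y
    have : (x : G) ∈ Subgroup.center G := by
      rw [MonoidHom.mem_ker] at hx
      exact (QuotientGroup.eq_one_iff (x : G)).mp (congrArg Subtype.val hx)
    exact Subtype.ext (Subgroup.mem_center_iff.mp this y)
  rw [eq_bot_iff]
  intro z hz
  obtain ⟨g, rfl⟩ := QuotientGroup.mk'_surjective _ z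
  rw [Subgroup.mem_bot]
  exact (QuotientGroup.eq_one_iff g).mpr (hXF hz)

/-- Non-commuting members are congruent modulo `F(G)` when `O_2(G) = 1`. -/
theorem mul_mem_fitting (hp5 : 5 ≤ p) (hO2 : pCore 2 G = ⊥) {a c : G} (ha : a ∈ D) (hc : c ∈ D)
    (hac : ¬ Commute a c) : a * c ∈ fittingSubgroup G := by
  haveI := Fact.mk hp
  have hp2 : p ≠ 2 := by omega
  set π := QuotientGroup.mk' (fittingSubgroup G) with hπ
  have hs : Function.Surjective π := QuotientGroup.mk'_surjective _
  set D' := π '' D \ {1} with hD'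
  have hG' : Good p D' := hG.image π hs
  have hgen' : Subgroup.closure D' = ⊤ := Good.closure_image π hgen hs
  have hmem : ∀ d ∈ D, π d ∈ D' := fun d hd => ⟨⟨d, hd, rfl⟩, fun h =>
    hG.ne_one hd (eq_one_of_mem_fitting_sq hO2 ((QuotientGroup.eq_one_iff d).mp h)
      (by rw [pow_two, hG.mul_self hd]))⟩
  by_contra hcon
  have hX : π (a * c) ≠ 1 := fun h => hcon ((QuotientGroup.eq_one_iff _).mp h)
  have hXp : π (a * c) ^ p = 1 := by rw [← map_pow, hG.pow_p ha hc hac, map_one]
  have hnc : ¬ Commute (π a) (π c) := by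
    intro h
    have h2 := (hG'.commute_iff (hmem a ha) (hmem c hc)).mp h
    rw [← map_mul] at h2
    exact hX (eq_one_of_sq_of_pow hp hp2 h2 hXp)
  set Q := pCore 2 (G ⧸ fittingSubgroup G) with hQ
  have hQn : Q.Normal := Constrained.instNormalPCore 2
  -- a member that moves some element of `Q` gives four commuting members
  have step : ∀ u ∈ D, ∀ x ∈ D, ¬ Commute (π u) (π x) → ∀ q ∈ Q, Commute q (π u) := by
    intro u hu x hx hux q hq
    by_contra hqu
    set b := q * π u * q⁻¹ with hb
    have hbD : b ∈ D' := hG'.conj q _ (hmem u hu)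
    have hsQ : π u * b ∈ Q := by
      have : π u * b = π u * q * (π u)⁻¹ * q⁻¹ := by
        rw [hb, hG'.inv_eq (hmem u hu)]; simp only [mul_assoc]
      rw [this]; exact mul_mem (hQn.conj_mem q hq _) (inv_mem hq)
    have hne : π u ≠ b := fun h => hqu (show q * π u = π u * q by
      nth_rewrite 2 [h]; rw [hb, inv_mul_cancel_right])
    have hub : Commute (π u) b := by
      by_contra h
      have := eq_one_of_mem_two_pow hp hp2 hsQ (hG'.pow_p (hmem u hu) hbD h)
      exact hne ((mul_eq_one_iff_eq_inv.mp this).trans (hG'.inv_eq hbD))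
    have hxb : ¬ Commute (π x) b := by
      intro h
      have h2 : (π x * b) ^ 2 = 1 := (hG'.commute_iff (hmem x hx) hbD).mp h
      have h3 : ((π x * π u) ^ 2 : G ⧸ fittingSubgroup G) ∈ Q := by
        have e : ((π x * π u : G ⧸ fittingSubgroup G) : _ ⧸ Q) = ((π x * b : G ⧸ fittingSubgroup G) : _ ⧸ Q) := by
          rw [QuotientGroup.eq]
          have : (π x * π u)⁻¹ * (π x * b) = π u * b := by
            rw [mul_inv_rev, hG'.inv_eq (hmem u hu), hG'.inv_eq (hmem x hx), mul_assoc, ← mul_assoc (π x) (π x),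
              hG'.mul_self (hmem x hx), one_mul]
          rw [this]; exact hsQ
        rw [← QuotientGroup.eq_one_iff, QuotientGroup.mk_pow, e, ← QuotientGroup.mk_pow, h2,
          QuotientGroup.mk_one]
      have hpp : ((π x * π u) ^ 2) ^ p = 1 := by
        rw [← pow_mul, mul_comm, pow_mul,
          hG'.pow_p (hmem x hx) (hmem u hu) (fun h => hux h.symm), one_pow]
      exact hux ((hG'.commute_iff (hmem x hx) (hmem u hu)).mpr
        (eq_one_of_mem_two_pow hp hp2 h3 hpp)).symm
    have hall : ∀ y ∈ D', Commute (π u * b) (y * (π u * b) * y) := by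
      intro y hy
      set s := π u * b with hs'
      have hss : s * s = 1 := by
        rw [← pow_two]; exact (hG'.commute_iff (hmem u hu) hbD).mp hub
      have hts : y * s * y ∈ Q := by
        have := hQn.conj_mem s hsQ y
        rwa [hG'.inv_eq hy] at this
      have hprod : s * (y * s * y) = (s * y * s⁻¹) * y := by
        rw [inv_eq_of_mul_eq_one_right hss]; simp only [mul_assoc]
      have h2 : (s * (y * s * y)) ^ 2 = 1 := by
        rcases hG'.prod _ (hG'.conj s y hy) y hy with h | h
        · rw [hprod]; exact h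
        · rw [← hprod] at h
          rw [eq_one_of_mem_two_pow hp hp2 (mul_mem hsQ hts) h, one_pow]
      have htt : (y * s * y) * (y * s * y) = 1 := by
        rw [← conj_involution (hG'.mul_self hy), hss, mul_one, hG'.mul_self hy]
      show s * (y * s * y) = y * s * y * s
      rw [pow_two] at h2
      rw [eq_inv_of_mul_eq_one_left h2, mul_inv_rev, inv_eq_of_mul_eq_one_right hss,
        inv_eq_of_mul_eq_one_right htt]
    obtain ⟨a', ha', b', hb', c', hc', he', hab, hac', hbc, nab, nac, nbc⟩ :=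
      exists_four hG' hp hp5 (hmem u hu) hbD (hmem x hx) hub hne (fun h => hux h.symm) hxb
        (fun y hy _ _ => hall y hy)
    obtain ⟨⟨a₁, ha₁, rfl⟩, -⟩ := ha'
    obtain ⟨⟨b₁, hb₁, rfl⟩, -⟩ := hb'
    obtain ⟨⟨c₁, hc₁, rfl⟩, -⟩ := hc'
    obtain ⟨⟨e₁, he₁, hee⟩, -⟩ := he'
    have lift : ∀ y ∈ D, ∀ z ∈ D, Commute (π y) (π z) → π y ≠ π z → Commute y z := by
      intro y hy z hz h hne'
      by_contra hyz
      have h2 := (hG'.commute_iff (hmem y hy) (hmem z hz)).mp h
      rw [← map_mul] at h2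
      have h1 := eq_one_of_sq_of_pow hp hp2 h2 (by rw [← map_pow, hG.pow_p hy hz hyz, map_one])
      rw [map_mul] at h1
      exact hne' ((mul_eq_one_iff_eq_inv.mp h1).trans (hG'.inv_eq (hmem z hz)))
    have c1 := lift a₁ ha₁ b₁ hb₁ hab nab
    have c2 := lift a₁ ha₁ c₁ hc₁ hac' nac
    have c3 := lift b₁ hb₁ c₁ hc₁ hbc nbc
    have hne1 : π e₁ ≠ π a₁ := by
      rw [hee]; intro h; rw [mul_assoc] at h
      have := mul_eq_left.mp h
      exact nbc ((mul_eq_one_iff_eq_inv.mp this).trans (hG'.inv_eq (hmem c₁ hc₁)))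
    have hne2 : π e₁ ≠ π b₁ := by
      rw [hee, hab.eq, mul_assoc]; intro h
      have := mul_eq_left.mp h
      exact nac ((mul_eq_one_iff_eq_inv.mp this).trans (hG'.inv_eq (hmem c₁ hc₁)))
    have hne3 : π e₁ ≠ π c₁ := by
      rw [hee]; intro h
      have := mul_eq_right.mp h
      exact nab ((mul_eq_one_iff_eq_inv.mp this).trans (hG'.inv_eq (hmem b₁ hb₁)))
    have cabc : ∀ y ∈ D, Commute (π y) (π a₁) → Commute (π y) (π b₁) → Commute (π y) (π c₁) →
        Commute (π y) (π e₁) := fun y _ h1 h2 h3 => by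
      rw [hee]; exact (h1.mul_right h2).mul_right h3
    have c4 := lift a₁ ha₁ e₁ he₁ (cabc a₁ ha₁ (Commute.refl _) hab hac') hne1.symm
    have c5 := lift b₁ hb₁ e₁ he₁ (cabc b₁ hb₁ hab.symm (Commute.refl _) hbc) hne2.symm
    have c6 := lift c₁ hc₁ e₁ he₁ (cabc c₁ hc₁ hac'.symm hbc.symm (Commute.refl _)) hne3.symm
    set w := a₁ * b₁ * c₁ with hw
    have hw2 : w * w = 1 := by
      rw [hw, ← pow_two, (c2.mul_left c3).mul_pow, c1.mul_pow, pow_two, pow_two, pow_two,
        hG.mul_self ha₁, hG.mul_self hb₁, hG.mul_self hc₁, one_mul, one_mul]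
    have hwe : w = e₁ := by
      have hcw : Commute w e₁ := (c4.mul_left c5).mul_left c6
      have h1 : π (w * e₁) = 1 := by
        rw [map_mul, show π w = π e₁ by rw [hee, hw, map_mul, map_mul], hG'.mul_self (hmem e₁ he₁)]
      have h2 : (w * e₁) ^ 2 = 1 := by
        rw [hcw.mul_pow, pow_two, pow_two, hw2, hG.mul_self he₁, one_mul]
      have := eq_one_of_mem_fitting_sq hO2 ((QuotientGroup.eq_one_iff _).mp h1) h2
      exact (mul_eq_one_iff_eq_inv.mp this).trans (hG.inv_eq he₁)
    exact no_four hG hp hgen hp2 hO2 ha₁ hb₁ hc₁ (hw ▸ hwe ▸ he₁) c1 c2 c3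
      (fun h => nab (congrArg π h)) (fun h => nac (congrArg π h)) (fun h => nbc (congrArg π h))
  have hgF : π (a * c) ∈ fittingSubgroup (G ⧸ fittingSubgroup G) := by
    refine mem_fitting_of_centralizes hG' hp hgen' (fun f hf => ?_) (fun f hf => ?_)
    · rw [map_mul]
      exact (step a ha c hc hnc f hf).mul_right (step c hc a ha (fun h => hnc h.symm) f hf)
    · rw [pCore_quotient_fitting hG hp hgen hO2, Subgroup.mem_bot] at hf
      subst hf; exact Commute.one_left _
  have := mem_pCore_of_mem_fitting hp hgF hXp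
  rw [pCore_quotient_fitting hG hp hgen hO2, Subgroup.mem_bot] at this
  exact hX this

omit [Group.IsSolvable G] hgen in
/-- A member in `O_2` commutes with every member. -/
theorem commute_of_mem_pCore_two (hp2 : p ≠ 2) {d y : G} (hd : d ∈ D) (hy : y ∈ D)
    (hdO : d ∈ pCore 2 G) : Commute d y := by
  by_contra h
  have h1 : (d * y) ^ 2 ∈ pCore 2 G := by
    have e : (d * y) ^ 2 = d * (y * d * y⁻¹) := by
      rw [pow_two, hG.inv_eq hy]; simp only [mul_assoc]
    rw [e]; exact mul_mem hdO ((Constrained.instNormalPCore 2).conj_mem d hdO y)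
  refine h ((hG.commute_iff hd hy).mpr (eq_one_of_mem_two_pow hp hp2 h1 ?_))
  rw [← pow_mul, mul_comm, pow_mul, hG.pow_p hd hy h, one_pow]

/-- Commuting members with a common non-commuting member have product in `O_2`. -/
theorem mul_mem_pCore_two (hp5 : 5 ≤ p) {a b x : G} (ha : a ∈ D) (hb : b ∈ D) (hx : x ∈ D)
    (hab : Commute a b) (hxa : ¬ Commute x a) (hxb : ¬ Commute x b) : a * b ∈ pCore 2 G := by
  haveI := Fact.mk Nat.prime_two
  have hp2 : p ≠ 2 := by omega
  set π := QuotientGroup.mk' (pCore 2 G) with hπ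
  have hs : Function.Surjective π := QuotientGroup.mk'_surjective _
  have hO : pCore 2 (G ⧸ pCore 2 G) = ⊥ := Constrained.pCore_quotient_pCore
  have hG' : Good p (π '' D \ {1}) := hG.image π hs
  have hgen' := Good.closure_image π hgen hs
  have hout : ∀ d ∈ D, ∀ y ∈ D, ¬ Commute y d → π d ∈ π '' D \ {1} := fun d hd y hy h =>
    ⟨⟨d, hd, rfl⟩, fun h1 => h (commute_of_mem_pCore_two hG hp hp2 hd hy
      ((QuotientGroup.eq_one_iff d).mp h1)).symm⟩
  have hnc : ∀ d ∈ D, ¬ Commute x d → ¬ Commute (π x) (π d) := by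
    intro d hd h hc
    have h1 := (hG'.commute_iff (hout x hx d hd fun h' => h h'.symm) (hout d hd x hx h)).mp hc
    rw [← map_mul, ← map_pow] at h1
    refine h ((hG.commute_iff hx hd).mpr (eq_one_of_mem_two_pow hp hp2
      ((QuotientGroup.eq_one_iff _).mp h1) ?_))
    rw [← pow_mul, mul_comm, pow_mul, hG.pow_p hx hd h, one_pow]
  have hA := hout a ha x hx hxa
  have hB := hout b hb x hx hxb
  have hXm := hout x hx a ha fun h' => hxa h'.symm
  have h1 := mul_mem_fitting hG' hp hgen' hp5 hO hXm hA (hnc a ha hxa)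
  have h2 := mul_mem_fitting hG' hp hgen' hp5 hO hXm hB (hnc b hb hxb)
  have h3 : π a * π b ∈ fittingSubgroup (G ⧸ pCore 2 G) := by
    have e : π a * π b = (π x * π a)⁻¹ * (π x * π b) := by
      rw [mul_inv_rev, hG'.inv_eq hA, hG'.inv_eq hXm, mul_assoc, ← mul_assoc (π x) (π x),
        hG'.mul_self hXm, one_mul]
    rw [e]; exact mul_mem (inv_mem h1) h2
  have h4 := eq_one_of_mem_fitting_sq hO h3 (by
    rw [← map_mul, ← map_pow, (hG.commute_iff ha hb).mp hab, map_one])
  rw [← map_mul] at h4
  exact (QuotientGroup.eq_one_iff _).mp h4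

/-- Three pairwise commuting members outside `O_2` have product outside `O_2`. -/
theorem no_three_pCore_two (hp2 : p ≠ 2) {a b c : G} (ha : a ∈ D) (hb : b ∈ D) (hc : c ∈ D)
    (hab : Commute a b) (hA : a ∉ pCore 2 G) (hB : b ∉ pCore 2 G) (hC : c ∉ pCore 2 G)
    (h : a * b * c ∈ pCore 2 G) : False := by
  haveI := Fact.mk Nat.prime_two
  set π := QuotientGroup.mk' (pCore 2 G) with hπ
  have hs : Function.Surjective π := QuotientGroup.mk'_surjective _
  have hO : pCore 2 (G ⧸ pCore 2 G) = ⊥ := Constrained.pCore_quotient_pCore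
  have hG' : Good p (π '' D \ {1}) := hG.image π hs
  have hmem : ∀ d ∈ D, d ∉ pCore 2 G → π d ∈ π '' D \ {1} := fun d hd h =>
    ⟨⟨d, hd, rfl⟩, fun h1 => h ((QuotientGroup.eq_one_iff d).mp h1)⟩
  have h1 : π a * π b = π c := by
    rw [← hG'.inv_eq (hmem c hc hC), ← mul_eq_one_iff_eq_inv, ← map_mul, ← map_mul]
    exact (QuotientGroup.eq_one_iff _).mpr h
  have hne : π a ≠ π b := by
    intro e
    rw [e, hG'.mul_self (hmem b hb hB)] at h1
    exact hG'.ne_one (hmem c hc hC) h1.symm
  exact no_three hG' hp (Good.closure_image π hgen hs) hp2 hO (hmem a ha hA) (hmem b hb hB)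
    (hab.map π) hne (h1 ▸ hmem c hc hC)

end Core

end CfsgLib.OddTransp48
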