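import Cfsg.Agent.OddTransp48.BlockAction
import Cfsg.Agent.OddProducts.PCore

/-!
# The members of `D` mapping one block to another
-/

set_option autoImplicit false
set_option linter.style.haveILetI false

open Cfsg

namespace CfsgLib.OddTransp48

variable {G : Type*} [Group G] {p : ℕ} {D : Set G}

theorem two_pow_sub_one_eq_prime {n r : ℕ} (hp : p.Prime) (hp2 : p ≠ 2) (hn : 2 ≤ n)
    (h : p ^ r + 1 = 2 ^ n) : r = 1 := by
  have hodd := hp.odd_of_ne_two hp2
  have h4 : 4 ∣ p ^ r + 1 := by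
    rw [h]; exact (by norm_num : (4 : ℕ) = 2 ^ 2) ▸ pow_dvd_pow 2 hn
  rcases Nat.even_or_odd r with ⟨t, rfl⟩ | hr
  · exfalso
    obtain ⟨k, hk⟩ := hodd.pow (n := t)
    rw [pow_add, hk, show (2 * k + 1) * (2 * k + 1) + 1 = 4 * (k * k + k) + 2 by ring] at h4
    omega
  · -- the cofactor of `p + 1` is odd
    have hd : (p : ℤ) + 1 ∣ (p : ℤ) ^ r + 1 := by
      have := hr.add_dvd_pow_add_pow (p : ℤ) 1
      simpa using this
    have hfac : ((p : ℤ) + 1) * ∑ i ∈ Finset.range r, (-(p : ℤ)) ^ i = (p : ℤ) ^ r + 1 := by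
      have := geom_sum_mul (-(p : ℤ)) r
      rw [hr.neg_pow] at this
      linarith
    have hsodd : Odd (∑ i ∈ Finset.range r, (-(p : ℤ)) ^ i) := by
      have hpodd : Odd (-(p : ℤ)) := (hodd.natCast (R := ℤ)).neg
      have key : ∀ m : ℕ, Odd (∑ i ∈ Finset.range m, (-(p : ℤ)) ^ i) ↔ Odd m := by
        intro m
        induction m with
        | zero => simp
        | succ m ih =>
          rw [Finset.sum_range_succ, Int.odd_add, ih, Nat.odd_add_one]
          have := (hpodd.pow (n := m))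
          simp [Int.not_even_iff_odd.mpr this]
      exact (key r).mpr hr
    set S := ∑ i ∈ Finset.range r, (-(p : ℤ)) ^ i
    have hS : S.natAbs = 1 := by
      have h1 : ((p : ℤ) + 1).natAbs * S.natAbs = 2 ^ n := by
        rw [← Int.natAbs_mul, hfac, ← h]
        exact congrArg Int.natAbs (by push_cast; ring : (p : ℤ) ^ r + 1 = ((p ^ r + 1 : ℕ) : ℤ))
      have hdvd : S.natAbs ∣ 2 ^ n := ⟨((p : ℤ) + 1).natAbs, by rw [← h1]; ring⟩
      obtain ⟨j, -, hj⟩ := (Nat.dvd_prime_pow Nat.prime_two).mp hdvd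
      rcases j with _ | j
      · exact hj
      · exact absurd (Int.natAbs_odd.mpr hsodd) (by rw [hj]; simp [Nat.not_odd_iff_even, Nat.even_pow])
    have heq : p ^ r + 1 = p + 1 := by
      have := congrArg Int.natAbs hfac
      rw [Int.natAbs_mul, hS, mul_one] at this
      have e1 : ((p : ℤ) + 1).natAbs = p + 1 := by omega
      have e2 : ((p : ℤ) ^ r + 1).natAbs = p ^ r + 1 := by
        simpa using Int.natAbs_natCast (p ^ r + 1)
      rw [e1, e2] at this
      exact this.symm
    have : p ^ r = p ^ 1 := by rw [pow_one]; omega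
    exact Nat.pow_right_injective hp.two_le this

/-- A set of pairwise non-commuting members closed under its own conjugation has all products in
a `p`-group inside the group it generates. -/
theorem exists_pgroup_of_closed [Finite G] (hG : Good p D) (hp : p.Prime) (hp2 : p ≠ 2) (T : Set G)
    (hT : T ⊆ D) (hclosed : ∀ x ∈ T, ∀ y ∈ T, x * y * x ∈ T)
    (hnc : ∀ x ∈ T, ∀ y ∈ T, Commute x y → x = y) :
    ∃ Q : Subgroup G, Q ≤ Subgroup.closure T ∧ IsPGroup p ↥Q ∧ ∀ x ∈ T, ∀ y ∈ T, x * y ∈ Q := by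
  set K := Subgroup.closure T with hK
  haveI := Fact.mk hp
  refine ⟨(pCore p ↥K).map K.subtype, Subgroup.map_subtype_le _,
    (Constrained.isPGroup_pCore (G := ↥K) (p := p)).map _, fun x hx y hy => ?_⟩
  have hstab : ∀ g ∈ K, (∀ y ∈ T, g * y * g⁻¹ ∈ T) ∧ ∀ y ∈ T, g⁻¹ * y * g⁻¹⁻¹ ∈ T := by
    intro g hg
    induction hg using Subgroup.closure_induction with
    | mem z hz =>
      constructor <;> intro y hy <;> simpa [hG.inv_eq (hT hz)] using hclosed z hz y hy
    | one => simp
    | mul a b _ _ ha hb =>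
      constructor
      · intro y hy; simpa [mul_assoc] using ha.1 _ (hb.1 y hy)
      · intro y hy; simpa [mul_assoc] using hb.2 _ (ha.2 y hy)
    | inv a _ ha =>
      refine ⟨ha.2, fun y hy => ?_⟩
      rw [inv_inv]; exact ha.1 y hy
  have hG' : Good p (K.subtype ⁻¹' T) :=
    { two := fun d hd => by
        rw [← orderOf_injective K.subtype K.subtype_injective d]; exact hG.two _ (hT hd)
      conj := fun g d hd => (hstab g g.2).1 _ hd
      prod := fun a ha b hb => by
        rcases hG.prod _ (hT ha) _ (hT hb) with h | h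
        · exact Or.inl (K.subtype_injective (by simpa using h))
        · exact Or.inr (K.subtype_injective (by simpa using h)) }
  let X : ↥K := ⟨x, Subgroup.subset_closure hx⟩
  let Y : ↥K := ⟨y, Subgroup.subset_closure hy⟩
  have hsub : conjugatesOf X ⊆ K.subtype ⁻¹' T := by
    intro c hc
    obtain ⟨g, rfl⟩ := isConj_iff.mp hc
    exact hG'.conj g X hx
  have hprod : ∀ a ∈ conjugatesOf X, ∀ b ∈ conjugatesOf X, ∃ k : ℕ, orderOf (a * b) = p ^ k := by
    intro a ha b hb
    by_cases hab : Commute a b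
    · have := hnc _ (hsub ha) _ (hsub hb) (congrArg Subtype.val hab.eq)
      refine ⟨0, ?_⟩
      rw [show a = b from Subtype.ext this, hG'.mul_self (hsub hb), orderOf_one, pow_zero]
    · exact ⟨1, by rw [hG'.orderOf_mul hp (hsub ha) (hsub hb) hab, pow_one]⟩
  have hXY : X * Y ∈ pCore p ↥K := by
    refine OddProducts.mem_pCore hp hp2 (hG'.two X hx) hprod X (mem_conjugatesOf_self) Y ?_
    by_cases hc : Commute X Y
    · rw [show Y = X from (Subtype.ext (hnc x hx y hy (congrArg Subtype.val hc.eq))).symm]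
      exact mem_conjugatesOf_self
    · obtain ⟨z, hz, -, hzy⟩ := hG'.exists_swapper hp hp2 (a := X) (b := Y) hx hy hc
      exact isConj_iff.mpr ⟨z, by rw [hG'.inv_eq hz]; exact hzy⟩
  exact ⟨X * Y, hXY, rfl⟩

/-- The members of `D` mapping `B` to `C`. -/
def Good.sw (hG : Good p D) (B C : ↥hG.blocks) : Set G := {x | x ∈ D ∧ x • B = C}

namespace Flat

variable (hF : Flat p D)
include hF

theorem sw_back {B C : ↥hF.good.blocks} {x : G} (hx : x ∈ hF.good.sw B C) : x • C = B := by
  rw [← hx.2, smul_smul_self hF.good hx.1]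

theorem not_commute_rep {B C : ↥hF.good.blocks} (hne : B ≠ C) {a x : G} (ha : a ∈ D)
    (hB : B = hF.good.bk ha) (hx : x ∈ hF.good.sw B C) : ¬ Commute x a := by
  intro h
  apply hne
  rw [← hx.2, hB, (hF.smul_bk_eq_iff ha hx.1).mpr h]

theorem sw_noncomm {B C : ↥hF.good.blocks} (hne : B ≠ C) {x y : G} (hx : x ∈ hF.good.sw B C)
    (hy : y ∈ hF.good.sw B C) (h : Commute x y) : x = y := by
  by_contra hxy
  obtain ⟨a, ha, hB⟩ := hF.good.exists_bk B
  have hz : x * y ∈ D := hF.mul x hx.1 y hy.1 h hxy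
  have hfix : (x * y) • hF.good.bk ha = hF.good.bk ha := by
    rw [← hB, mul_smul, hy.2, hF.sw_back hx]
  have hza := (hF.smul_bk_eq_iff ha hz).mp hfix
  exact hF.not_commute_rep hne ha hB hx
    (hF.trans x hx.1 (x * y) hz a ha ((Commute.refl x).mul_right h) hza)

/-- No member commutes with a product of two non-commuting members. -/
theorem not_commute_mul [Finite G] {x y d : G} (hx : x ∈ D) (hy : y ∈ D) (hd : d ∈ D)
    (h : ¬ Commute x y) : ¬ Commute d (x * y) := by
  intro hc
  have hne : x ≠ y := fun e => h (e ▸ Commute.refl x)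
  obtain ⟨h1, h2⟩ := hF.good.commute_of_commute_mul hF.prime hF.toMin.ne_two hx hy hd hne hc
  exact h (hF.trans x hx d hd y hy h1.symm h2)

theorem sw_closed {B C : ↥hF.good.blocks} {x y : G} (hx : x ∈ hF.good.sw B C)
    (hy : y ∈ hF.good.sw B C) : x * y * x ∈ hF.good.sw B C := by
  refine ⟨hF.good.mul_mem hx.1 hy.1, ?_⟩
  rw [mul_smul, mul_smul, hx.2, hF.sw_back hy, hx.2]

theorem ncard_cblock [Finite G] {a b : G} (ha : a ∈ D) (hb : b ∈ D) :
    (cblock D a).s.ncard = (cblock D b).s.ncard := by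
  obtain ⟨g, hg⟩ := hF.toMin.isConj ha hb
  rw [← hg, ← hF.good.smul_cblock g a, CSet.smul_def, Set.ncard_image_of_injective]
  intro x y h
  simpa using h

/-- The members swapping two blocks correspond to the points of the second one. -/
theorem ncard_sw [Finite G] {B C : ↥hF.good.blocks} (hne : B ≠ C) {c : G} (hc : c ∈ D)
    (hC : C = hF.good.bk hc) : (hF.good.sw B C).ncard = (cblock D c).s.ncard := by
  have hp2 := hF.toMin.ne_two
  obtain ⟨a, ha, hB⟩ := hF.good.exists_bk B
  have hinj : Set.InjOn (fun x => x * a * x) (hF.good.sw B C) := fun x hx y hy h =>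
    hF.good.midpoint_unique hF.prime hp2 hx.1 hy.1 ha (hF.not_commute_rep hne ha hB hx)
      (hF.not_commute_rep hne ha hB hy) h
  rw [← Set.InjOn.ncard_image hinj]
  congr 1
  ext d
  constructor
  · rintro ⟨x, hx, rfl⟩
    refine ⟨hF.good.mul_mem hx.1 ha, (hF.bk_eq_iff (hF.good.mul_mem hx.1 ha) hc).mp ?_⟩
    rw [← hC]
    refine Eq.trans ?_ hx.2
    refine Eq.trans ?_ (congrArg (x • ·) hB).symm
    simp only [hF.good.smul_bk]
    exact Subtype.ext (by simp [Good.bk, hF.good.inv_eq hx.1])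
  · rintro ⟨hd, hdc⟩
    have hdC : hF.good.bk hd = C := by rw [hC, hF.bk_eq_iff]; exact hdc
    have had : ¬ Commute a d := fun h => hne (by rw [hB, ← hdC, hF.bk_eq_iff]; exact h)
    obtain ⟨x, hx, -, hxd⟩ := hF.good.exists_swapper hF.prime hp2 ha hd had
    refine ⟨x, ⟨hx, ?_⟩, hxd⟩
    rw [hB, ← hdC, hF.good.smul_bk]
    exact Subtype.ext (by simp [Good.bk, hF.good.inv_eq hx, hxd])

theorem exists_ne_block [Finite G] : ∃ B C : ↥hF.good.blocks, B ≠ C := by
  obtain ⟨a, ha⟩ := hF.nonempty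
  by_contra h
  push Not at h
  have hall : ∀ d ∈ D, Commute d a := fun d hd => (hF.bk_eq_iff hd ha).mp (h _ _)
  have hc : a ∈ Subgroup.center G := by
    rw [Subgroup.mem_center_iff]
    intro g
    have hg : g ∈ Subgroup.closure D := hF.gen ▸ Subgroup.mem_top g
    induction hg using Subgroup.closure_induction with
    | mem d hd => exact (hall d hd).eq
    | one => rw [one_mul, mul_one]
    | mul x y _ _ h1 h2 => rw [mul_assoc, h2, ← mul_assoc, h1, mul_assoc]
    | inv x _ h1 => exact (Commute.inv_left (show Commute x a from h1)).eq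
  rw [hF.toMin.center_eq_bot, Subgroup.mem_bot] at hc
  exact hF.good.ne_one ha hc

/-- Every block has exactly `p` points. -/
theorem ncard_block [Finite G] {c : G} (hc : c ∈ D) : (cblock D c).s.ncard = p := by
  have hp := hF.prime
  have hp2 := hF.toMin.ne_two
  haveI := Fact.mk hp
  haveI := Fact.mk Nat.prime_two
  obtain ⟨B, C, hne⟩ := hF.exists_ne_block
  obtain ⟨c', hc', hC⟩ := hF.good.exists_bk C
  rw [hF.ncard_cblock hc hc']
  have hSC := hF.ncard_sw hne hc' hC
  -- the size is a power of `p`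
  obtain ⟨Q, hQK, hQp, hQ⟩ := exists_pgroup_of_closed hF.good hp hp2 (hF.good.sw B C)
    (fun x hx => hx.1) (fun x hx y hy => hF.sw_closed hx hy) (fun x hx y hy => hF.sw_noncomm hne hx hy)
  obtain ⟨x₀, hx₀⟩ : (hF.good.sw B C).Nonempty := by
    rw [← Set.ncard_pos, hSC, Set.ncard_pos]
    exact ⟨c', hc', Commute.refl c'⟩
  have hstab : ∀ g ∈ Subgroup.closure (hF.good.sw B C),
      (∀ y ∈ hF.good.sw B C, g * y * g⁻¹ ∈ hF.good.sw B C) ∧
        ∀ y ∈ hF.good.sw B C, g⁻¹ * y * g⁻¹⁻¹ ∈ hF.good.sw B C := by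
    intro g hg
    induction hg using Subgroup.closure_induction with
    | mem z hz =>
      constructor <;> intro y hy <;> simpa [hF.good.inv_eq hz.1] using hF.sw_closed hz hy
    | one => simp
    | mul a b _ _ ha hb =>
      constructor
      · intro y hy; simpa [mul_assoc] using ha.1 _ (hb.1 y hy)
      · intro y hy; simpa [mul_assoc] using hb.2 _ (ha.2 y hy)
    | inv a _ ha =>
      refine ⟨ha.2, fun y hy => ?_⟩
      rw [inv_inv]; exact ha.1 y hy
  have horb : MulAction.orbit ↥Q (⟨{x₀}⟩ : CSet G) =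
      (fun y => (⟨{y}⟩ : CSet G)) '' hF.good.sw B C := by
    ext Y
    constructor
    · rintro ⟨q, rfl⟩
      exact ⟨q * x₀ * (q : G)⁻¹, (hstab q (hQK q.2)).1 x₀ hx₀,
        CSet.ext (Set.image_singleton (f := fun x => (q : G) * x * (q : G)⁻¹)).symm⟩
    · rintro ⟨y, hy, rfl⟩
      by_cases hyx : x₀ = y
      · exact ⟨1, by rw [← hyx]; exact one_smul _ _⟩
      have hnc : ¬ Commute x₀ y := fun h => hyx (hF.sw_noncomm hne hx₀ hy h)
      obtain ⟨r, hr⟩ := hp.odd_of_ne_two hp2
      set g := x₀ * y with hg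
      refine ⟨(⟨g, hQ x₀ hx₀ y hy⟩ : ↥Q) ^ r, ?_⟩
      refine CSet.ext ?_
      show (fun x => ((⟨g, hQ x₀ hx₀ y hy⟩ : ↥Q) ^ r : ↥Q).1 * x * _⁻¹) '' {x₀} = {y}
      rw [Set.image_singleton]
      simp only [SubmonoidClass.coe_pow]
      congr 1
      have h1 : x₀ * g ^ r * x₀ = (g⁻¹) ^ r := hF.good.swap_pow hx₀.1 hy.1 r
      rw [inv_pow] at h1
      have h2 : g ^ r * g ^ r = g⁻¹ := by
        rw [← pow_add, eq_inv_iff_mul_eq_one, ← pow_succ, show r + r + 1 = p by omega]
        exact hF.good.pow_p hx₀.1 hy.1 hnc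
      calc g ^ r * x₀ * (g ^ r)⁻¹ = g ^ r * x₀ * (x₀ * g ^ r * x₀) := by rw [h1]
        _ = g ^ r * g ^ r * x₀ := by
          simp only [mul_assoc]; rw [← mul_assoc x₀ x₀, hF.good.mul_self hx₀.1, one_mul]
        _ = y := by
          rw [h2, hg, mul_inv_rev, hF.good.inv_eq hx₀.1, hF.good.inv_eq hy.1, mul_assoc,
            hF.good.mul_self hx₀.1, mul_one]
  obtain ⟨r, hr⟩ := hQp.card_orbit (⟨{x₀}⟩ : CSet G)
  rw [Nat.card_coe_set_eq, horb, Set.ncard_image_of_injective _ (fun y z h => by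
    simpa using congrArg CSet.s h), hSC] at hr
  -- the size is `2 ^ n - 1`
  let W : Subgroup G :=
    { carrier := insert 1 (cblock D c').s
      one_mem' := Set.mem_insert 1 _
      mul_mem' := by
        rintro a b (rfl | ⟨ha, hac⟩) (rfl | ⟨hb, hbc⟩)
        · simp
        · simp only [one_mul]; exact Or.inr ⟨hb, hbc⟩
        · simp only [mul_one]; exact Or.inr ⟨ha, hac⟩
        · by_cases hab : a = b
          · subst hab; exact Or.inl (hF.good.mul_self ha)
          · exact Or.inr ⟨hF.mul a ha b hb (hF.trans a ha c' hc' b hb hac hbc.symm) hab,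
              hac.mul_left hbc⟩
      inv_mem' := by
        rintro a (rfl | ⟨ha, hac⟩)
        · simp
        · exact Or.inr (by rw [hF.good.inv_eq ha]; exact ⟨ha, hac⟩) }
  have hW2 : IsPGroup 2 ↥W := by
    rintro ⟨a, ha⟩
    refine ⟨1, Subtype.ext ?_⟩
    rcases ha with rfl | ⟨ha, -⟩
    · simp
    · simpa [pow_two] using hF.good.mul_self ha
  obtain ⟨n, hn⟩ := IsPGroup.iff_card.mp hW2
  have hWc : Nat.card ↥W = (cblock D c').s.ncard + 1 := by
    show Nat.card ↑(insert 1 (cblock D c').s) = _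
    rw [Nat.card_coe_set_eq, Set.ncard_insert_of_notMem]
    exact fun h => hF.good.ne_one h.1 rfl
  have hcard : p ^ r + 1 = 2 ^ n := by rw [← hr, ← hWc, hn]
  obtain ⟨b, hb, hbc, hcb⟩ := hF.partner c' hc'
  have h2 : 2 ≤ (cblock D c').s.ncard := by
    have hsub : ({c', b} : Set G) ⊆ (cblock D c').s := by
      rintro z (rfl | rfl)
      · exact ⟨hc', Commute.refl _⟩
      · exact ⟨hb, hcb.symm⟩
    have := Set.ncard_le_ncard hsub (Set.toFinite _)
    rwa [Set.ncard_pair hbc.symm] at this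
  have hn2 : 2 ≤ n := by
    by_contra h
    have : 2 ^ n ≤ 2 := by
      calc 2 ^ n ≤ 2 ^ 1 := Nat.pow_le_pow_right (by norm_num) (by omega)
        _ = 2 := by norm_num
    omega
  rw [hr, two_pow_sub_one_eq_prime hp hp2 hn2 hcard, pow_one]

/-- Two swappers determine all the others. -/
theorem sw_eq_line [Finite G] {B C : ↥hF.good.blocks} (hne : B ≠ C) {x y : G}
    (hx : x ∈ hF.good.sw B C) (hy : y ∈ hF.good.sw B C) (hxy : x ≠ y) :
    ∀ z ∈ hF.good.sw B C, ∃ k : ℕ, z = x * (x * y) ^ k := by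
  have hp := hF.prime
  have hnc : ¬ Commute x y := fun h => hxy (hF.sw_noncomm hne hx hy h)
  set g := x * y with hg
  have hgB : ∀ k : ℕ, g ^ k • B = B := by
    intro k
    induction k with
    | zero => rw [pow_zero, one_smul]
    | succ k ih => rw [pow_succ, mul_smul, hg, mul_smul, hy.2, hF.sw_back hx, ← hg, ih]
  let f : Fin p → G := fun k => x * g ^ (k : ℕ)
  have hmem : ∀ k, f k ∈ hF.good.sw B C := fun k =>
    ⟨hF.good.mul_pow_mem hp hF.toMin.ne_two hx.1 hy.1 hnc k, by rw [mul_smul, hgB, hx.2]⟩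
  have hinj : Function.Injective f := fun i j h => by
    refine Fin.ext (pow_injOn_Iio_orderOf ?_ ?_ (mul_left_cancel h)) <;>
      simp [hg, hF.good.orderOf_mul hp hx.1 hy.1 hnc]
  obtain ⟨c, hc, hC⟩ := hF.good.exists_bk C
  have heq : Set.range f = hF.good.sw B C := by
    refine Set.eq_of_subset_of_ncard_le (Set.range_subset_iff.mpr hmem) ?_ (Set.toFinite _)
    rw [hF.ncard_sw hne hc hC, hF.ncard_block hc, Set.ncard_range_of_injective hinj,
      Nat.card_eq_fintype_card, Fintype.card_fin]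
  intro z hz
  rw [← heq] at hz
  obtain ⟨k, rfl⟩ := hz
  exact ⟨k, rfl⟩

end Flat

end CfsgLib.OddTransp48
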